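import Cfsg.Agent.Lib.Rel.McKay

/-!
# Counting irreducible characters of a subgroup in the ambient language
-/

set_option autoImplicit false
set_option linter.unusedSectionVars false

namespace Cfsg.Lib.Rel

open Cfsg.Lib.PF Cfsg.Lib.Char Subgroup
open scoped ComplexConjugate

universe u

variable {X : Type u} [Group X] [Finite X] {U L : Subgroup X} {F : Finset (X → ℂ)} {p : ℕ}

theorem card_subtype_ext {a : IrrCharacter U → Prop} (hF : F ⊆ Irr U)
    (h : ∀ χ, a χ ↔ extendByZero U χ.1 ∈ F) : Nat.card {χ // a χ} = F.card := by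
  rw [← Nat.card_eq_finsetCard]
  refine Nat.card_congr (Equiv.ofBijective (fun χ => ⟨_, (h χ.1).1 χ.2⟩)
    ⟨fun χ ψ e => Subtype.ext (ext_injective (congrArg Subtype.val e)), fun ⟨χ, hχ⟩ => ?_⟩)
  obtain ⟨χ, rfl⟩ := exists_eq_ext (hF hχ)
  exact ⟨⟨χ, (h χ).2 hχ⟩, rfl⟩

theorem card_subtype_top {a : IrrCharacter X → Prop} (hF : F ⊆ Irr ⊤)
    (h : ∀ χ, a χ ↔ χ.1 ∈ F) : Nat.card {χ // a χ} = F.card := by
  rw [← Nat.card_eq_finsetCard]
  exact Nat.card_congr (Equiv.ofBijective (fun χ => ⟨_, (h χ.1).1 χ.2⟩)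
    ⟨fun χ ψ e => Subtype.ext (Subtype.ext (Subtype.mk.inj e)), fun ⟨χ, hχ⟩ =>
      ⟨⟨⟨χ, mem_Irr_top.1 (hF hχ)⟩, (h _).2 hχ⟩, rfl⟩⟩)

theorem deg_top (χ : IrrCharacter X) : deg χ.1 = charDegree χ.1 := deg_of_eq χ.2.apply_one_eq

theorem cfdot_ext_ne_zero_iff (φ : X → ℂ) (ν : L → ℂ) :
    cfdot L φ (extendByZero L ν) ≠ 0 ↔ ∑ᶠ l : L, φ l * conj (ν l) ≠ 0 := by
  have := Fintype.ofFinite L
  rw [cfdot_def, sum_fs_subgroup, finsum_eq_sum_of_fintype,
    mul_ne_zero_iff_left (inv_ne_zero (card_ne_zero L))]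
  simp only [Induce.extendByZero_coe]

theorem IrrP_subset (ν : X → ℂ) : IrrP p U L ν ⊆ Irr U := fun _ h => (mem_IrrO.1 (mem_IrrP.1 h).1).1

/-- The relative McKay equality for a `p`-solvable group. -/
theorem card_IrrP_top_eq [Fact p.Prime] (hG : IsPSolvable p X) [L.Normal] (S : Sylow p X)
    {ν : X → ℂ} (hν : ν ∈ InvIrr L S) : (IrrP p ⊤ L ν).card =
      (IrrP p (normalizer ((L ⊔ S : Subgroup X) : Set X)) L ν).card := by
  rw [card_IrrP_eq _ X ⊤ L S ν le_top le_normalizer_of_normal S.isPGroup' le_top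
    (Transfer.sylow_not_dvd_relIndex S le_top)
    (pSolvMod_of_isPSolvable (Core.isPSolvable_top_iff.2 hG) L) hν (Nat.lt_succ_self _), top_inf_eq]

end Cfsg.Lib.Rel
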