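import Cfsg.Agent.Lib.Rel.Triple
import Cfsg.Agent.Lib.Coprime.FT
import Cfsg.Agent.Lib.Coprime.Action
import Cfsg.Agent.Lib.CharDeg.Glauberman

/-!
# Character correspondences given by restriction multiplicities modulo `p`

`ModCor p C A B`: each member of `A` has a unique constituent in `B` (on the subgroup `C`) with
multiplicity prime to `p`, that multiplicity is `±1`, and this is a bijection of `A` onto `B`.
Such correspondences are transported along character triples and the Clifford correspondence.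
-/

set_option autoImplicit false
set_option linter.unusedSectionVars false

namespace Cfsg.Lib.Rel

open Cfsg.Lib.PF Cfsg.Lib.Coprime Subgroup
open scoped ComplexConjugate

universe u

variable {X Y Γ : Type*} [Group X] [Group Y] [Group Γ] [Finite X] [Finite Y] [Finite Γ]

section Group

variable {B K S T N : Subgroup X}

theorem exists_quot {X : Type u} [Group X] [Finite X] (N : Subgroup X) :
    ∃ (Q : Type u) (_ : Group Q) (_ : Finite Q)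
    (q : normalizer (N : Set X) →* Q), ∀ g, q g = 1 ↔ (g : X) ∈ N := by
  have : (N.subgroupOf (normalizer (N : Set X))).Normal := normal_subgroupOf le_normalizer le_rfl
  exact ⟨_, inferInstance, inferInstance, QuotientGroup.mk' (N.subgroupOf (normalizer (N : Set X))),
    fun g => QuotientGroup.eq_one_iff g⟩

theorem card_map_quot {W : Subgroup X} {Q : Type*} [Group Q] {q : W →* Q}
    (hq : ∀ g, q g = 1 ↔ (g : X) ∈ N) (hK : K ≤ W) :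
    Nat.card ((K.subgroupOf W).map q) = N.relIndex K := by
  have : q.ker = N.subgroupOf W := Subgroup.ext hq
  rw [← relIndex_bot_left, ← relIndex_comap, MonoidHom.comap_bot, this, relIndex_subgroupOf hK]

theorem map_quot_le_normalizer {W : Subgroup X} {Q : Type*} [Group Q] [Finite Q] (q : W →* Q)
    (h : B ≤ normalizer (K : Set X)) :
    (B.subgroupOf W).map q ≤ normalizer (((K.subgroupOf W).map q : Subgroup Q) : Set Q) := by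
  rintro _ ⟨b, hb, rfl⟩
  refine mem_normalizer_fintype ?_
  rintro _ ⟨k, hk, rfl⟩
  exact ⟨b * k * b⁻¹, conj_mem_of_mem_normalizer (N := K) (h hb) hk, by simp⟩

theorem coprime_card_map_quot {W : Subgroup X} {Q : Type*} [Group Q] {q : W →* Q}
    (hq : ∀ g, q g = 1 ↔ (g : X) ∈ N) (hB : B ≤ W) (hK : K ≤ W)
    (hc : (Nat.card B).Coprime (N.relIndex K)) :
    (Nat.card ((B.subgroupOf W).map q)).Coprime (Nat.card ((K.subgroupOf W).map q)) := by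
  rw [card_map_quot hq hK, card_map_quot hq hB]
  exact hc.coprime_dvd_left (relIndex_dvd_card _ _)

theorem exists_conj_mem_mod (hBK : B ≤ normalizer (K : Set X)) (hB : B ≤ normalizer (N : Set X))
    (hK : K ≤ normalizer (N : Set X)) (hNS : N ≤ S) (hc : (Nat.card B).Coprime (N.relIndex K))
    (hS : ∀ b ∈ B, ∃ k ∈ K, k * b ∈ S) : ∃ k ∈ K, ∀ b ∈ B, k⁻¹ * b * k ∈ S := by
  obtain ⟨Q, _, _, q, hq⟩ := exists_quot N
  have h1 := coprime_card_map_quot hq hB hK hc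
  obtain ⟨_, ⟨k, hk, rfl⟩, h2⟩ := exists_conj_mem_of_subset_mul (S := (S.subgroupOf _).map q)
    (map_quot_le_normalizer q hBK) h1 (isSolvable_or_of_coprime h1) (by
      rintro _ ⟨b, hb, rfl⟩
      obtain ⟨k, hk, h⟩ := hS b hb
      exact ⟨_, ⟨⟨k, hK hk⟩, hk, rfl⟩, ⟨⟨k, hK hk⟩ * b, h, map_mul _ _ _⟩⟩)
  refine ⟨k, hk, fun b hb => ?_⟩
  obtain ⟨s, hs, e⟩ := h2 _ ⟨⟨b, hB hb⟩, hb, rfl⟩
  have h3 := (hq (s⁻¹ * (k⁻¹ * ⟨b, hB hb⟩ * k))).1 (by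
    rw [map_mul, map_inv, e, map_mul, map_mul, map_inv, inv_mul_cancel])
  exact (S.mul_mem_cancel_left (S.inv_mem hs)).1 (hNS h3)

theorem exists_fixed_mod (hBT : B ≤ normalizer (T : Set X)) (hB : B ≤ normalizer (N : Set X))
    (hT : T ≤ normalizer (N : Set X)) (hc : (Nat.card B).Coprime (N.relIndex T)) {k : X}
    (hk : k ∈ normalizer (N : Set X)) (h : ∀ b ∈ B, b * k * b⁻¹ * k⁻¹ ∈ T) :
    ∃ t ∈ T, ∀ b ∈ B, b * (t * k) * b⁻¹ * (t * k)⁻¹ ∈ N := by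
  obtain ⟨Q, _, _, q, hq⟩ := exists_quot N
  have h1 := coprime_card_map_quot hq hB hT hc
  obtain ⟨_, ⟨t, ht, rfl⟩, h2⟩ := exists_mul_mem_centralizer' (k := q ⟨k, hk⟩)
    (map_quot_le_normalizer q hBT) h1 (isSolvable_or_of_coprime h1) (by
      rintro _ ⟨b, hb, rfl⟩
      exact ⟨b * ⟨k, hk⟩ * b⁻¹ * (⟨k, hk⟩)⁻¹, h b hb, by simp⟩)
  refine ⟨t, ht, fun b hb => (hq (⟨b, hB hb⟩ * (t * ⟨k, hk⟩) * (⟨b, hB hb⟩)⁻¹ *
    (t * ⟨k, hk⟩)⁻¹)).1 ?_⟩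
  have := h2 _ ⟨⟨b, hB hb⟩, hb, rfl⟩
  simp only [map_mul, map_inv]
  rw [this]; group

end Group

section Inv

variable {K C N S T D : Subgroup X} {θ θ' χ ψ ξ γ : X → ℂ}

/-- The `S`-invariant irreducible characters of `U`. -/
def InvIrr (U S : Subgroup X) : Set (X → ℂ) := {χ | χ ∈ Irr U ∧ S ≤ inertia χ}

/-- The `S`-invariant irreducible characters of `U` over `θ`. -/
def InvO (U N : Subgroup X) (θ : X → ℂ) (S : Subgroup X) : Set (X → ℂ) :=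
  {χ | χ ∈ IrrO U N θ ∧ S ≤ inertia χ}

/-- An invariant character has an invariant constituent (Glauberman's lemma). -/
theorem exists_inv_below (hNK : N ≤ K) (hK : K ≤ normalizer (N : Set X))
    (hSK : S ≤ normalizer (K : Set X)) (hS : S ≤ normalizer (N : Set X))
    (hc : (Nat.card S).Coprime (N.relIndex K)) (hχ : χ ∈ InvIrr K S) :
    ∃ θ ∈ InvIrr N S, cfdot N χ θ ≠ 0 := by
  obtain ⟨θ, hθ, h1⟩ := Irr.exists_res_constituent hNK hχ.1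
  obtain ⟨k, hk, h2⟩ := exists_conj_mem_mod (S := inertia θ) hSK hS hK
    (CF.le_inertia (Irr.mem_CF hθ)) hc fun s hs => by
      have h3 : cfdot N χ (cfConj s⁻¹ θ) ≠ 0 := by
        rwa [← cfdot_cfConj_left (hS hs), mem_inertia.1 (hχ.2 hs)]
      obtain ⟨k, hk, e⟩ := mem_cfclass.1 (Irr.mem_cfclass_of_over hNK hK hχ.1 hθ
        (Irr.cfConj_mem (inv_mem (hS hs)) hθ) h1 h3)
      exact ⟨k, hk, by simpa using cfConj_eq_cfConj_iff.1 e⟩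
  refine ⟨cfConj k⁻¹ θ, ⟨Irr.cfConj_mem (inv_mem (hK hk)) hθ, fun s hs => ?_⟩, ?_⟩
  · rw [mem_inertia_cfConj, inv_inv]; exact h2 s hs
  · rwa [CF.cfdot_eq_of_mem_cfclass' hK (Irr.mem_CF hχ.1) (inv_mem hk)]

theorem le_normalizer_inertia (hS : S ≤ inertia θ) :
    S ≤ normalizer ((inertia θ : Subgroup X) : Set X) := hS.trans le_normalizer

/-- Conjugate invariant characters are conjugate under the fixed points (Glauberman's lemma). -/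
theorem exists_fixed_cfConj_eq (hK : K ≤ normalizer (N : Set X))
    (hSK : S ≤ normalizer (K : Set X)) (hS : S ≤ normalizer (N : Set X))
    (hc : (Nat.card S).Coprime (N.relIndex K)) (hθ : S ≤ inertia θ) {k : X} (hk : k ∈ K)
    (h : S ≤ inertia (cfConj k θ)) :
    ∃ c ∈ K, (∀ s ∈ S, s * c * s⁻¹ * c⁻¹ ∈ N) ∧ cfConj c θ = cfConj k θ := by
  obtain ⟨t, ht, h1⟩ := exists_fixed_mod (T := K ⊓ inertia θ)
    (le_normalizer_inf hSK (le_normalizer_inertia hθ)) hS (inf_le_left.trans hK)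
    (hc.coprime_dvd_right (relIndex_dvd_relIndex_of_le_normalizer inf_le_left hK)) (hK hk)
    fun s hs => ⟨K.mul_mem (conj_mem_of_mem_normalizer (hSK hs) hk) (K.inv_mem hk), by
      have := mem_inertia_cfConj.1 (h (S.inv_mem hs))
      simpa [mul_assoc] using (inertia θ).mul_mem (hθ hs) this⟩
  exact ⟨t * k, K.mul_mem ht.1 hk, h1, by rw [cfConj_mul, mem_inertia.1 ht.2]⟩

theorem le_inertia_ind (hT : S ≤ normalizer (T : Set X)) (hK : S ≤ normalizer (K : Set X))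
    (h : S ≤ inertia ψ) : S ≤ inertia (ind T K ψ) := fun s hs => by
  rw [mem_inertia, cfConj_ind (hT hs) (hK hs), mem_inertia.1 (h hs)]

/-- The Clifford correspondent of an invariant character is invariant. -/
theorem exists_ind_eq_inv (hNK : N ≤ K) (hK : K ≤ normalizer (N : Set X))
    (hSK : S ≤ normalizer (K : Set X)) (hS : S ≤ normalizer (N : Set X)) (hθ : θ ∈ InvIrr N S)
    (hχ : χ ∈ InvO K N θ S) : ∃ ψ ∈ InvO (K ⊓ inertia θ) N θ S, ind (K ⊓ inertia θ) K ψ = χ := by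
  have hN : N ≤ K ⊓ inertia θ := le_inf hNK (CF.le_inertia (Irr.mem_CF hθ.1))
  have hT := le_normalizer_inf hSK (le_normalizer_inertia hθ.2)
  obtain ⟨h1, h2⟩ := mem_IrrO.1 hχ.1
  obtain ⟨ψ, h3, h4, h5⟩ := exists_ind_eq_of_over hN inf_le_left hK hθ.1 le_rfl h1 h2
  have h6 : ψ ∈ IrrO (K ⊓ inertia θ) N θ := mem_IrrO.2 ⟨h3, h5 ▸ h2⟩
  refine ⟨ψ, ⟨h6, fun s hs => ?_⟩, h4⟩
  have h7 := cfConj_mem_IrrO (hT hs) (hS hs) h6
  rw [mem_inertia.1 (hθ.2 hs)] at h7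
  refine eq_of_ind_eq_of_over hN inf_le_left hK hθ.1 le_rfl (mem_IrrO.1 h7).1 h3 (mem_IrrO.1 h7).2
    (h5 ▸ h2) ?_
  rw [← cfConj_ind (hT hs) (hSK hs), h4, mem_inertia.1 (hχ.2 hs)]

theorem ind_mem_InvO (hNK : N ≤ K) (hK : K ≤ normalizer (N : Set X))
    (hSK : S ≤ normalizer (K : Set X)) (hθ : θ ∈ InvIrr N S)
    (hψ : ψ ∈ InvO (K ⊓ inertia θ) N θ S) : ind (K ⊓ inertia θ) K ψ ∈ InvO K N θ S := by
  have hN : N ≤ K ⊓ inertia θ := le_inf hNK (CF.le_inertia (Irr.mem_CF hθ.1))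
  obtain ⟨h1, h2⟩ := mem_IrrO.1 hψ.1
  exact ⟨mem_IrrO.2 ⟨ind_mem_Irr_of_over hN inf_le_left hK hθ.1 le_rfl h1 h2, by
    rwa [cfdot_ind_of_over hN inf_le_left hK hθ.1 le_rfl h1 h2]⟩,
    le_inertia_ind (le_normalizer_inf hSK (le_normalizer_inertia hθ.2)) hSK hψ.2⟩

theorem over_of_cfdot_ne_zero (hNT : N ≤ T) (hT : T ≤ normalizer (N : Set X))
    (hI : T ≤ inertia θ) (hθ : θ ∈ Irr N) (hψ : ψ ∈ IrrO T N θ) (hND : N ≤ D) (hDT : D ≤ T)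
    (hγ : γ ∈ Irr D) (h : cfdot D ψ γ ≠ 0) : cfdot N γ θ ≠ 0 := by
  obtain ⟨h1, h2⟩ := mem_IrrO.1 hψ
  obtain ⟨θ', h3, h4⟩ := Irr.exists_res_constituent hND hγ
  have h5 := Irr.mem_cfclass_of_over hNT hT h1 hθ h3 h2
    (IsChar.cfdot_ne_zero_trans hND hDT (Irr.isChar h1) hγ (Irr.isChar h3) h h4)
  rw [cfclass_of_le_inertia hI, Finset.mem_singleton] at h5
  exact h5 ▸ h4

theorem cfdot_ind_inertia (hNK : N ≤ K) (hK : K ≤ normalizer (N : Set X)) (hθ : θ ∈ Irr N)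
    (hNT : N ≤ T) (hT : T ≤ normalizer (N : Set X)) (hI : T ≤ inertia θ) (hψ : ψ ∈ IrrO T N θ)
    (hle : K ⊓ inertia θ ≤ T) (hγ : γ ∈ IrrO (K ⊓ inertia θ) N θ) :
    cfdot (K ⊓ inertia θ) ψ (ind (K ⊓ inertia θ) K γ) = cfdot (K ⊓ inertia θ) ψ γ := by
  have hN : N ≤ K ⊓ inertia θ := le_inf hNK (CF.le_inertia (Irr.mem_CF hθ))
  obtain ⟨h1, h2⟩ := mem_IrrO.1 hγ
  have h3 := ind_mem_Irr_of_over hN inf_le_left hK hθ le_rfl h1 h2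
  rw [← cfdot_res_left, CF.cfdot_eq_sum_Irr (res_mem_CF hle (Irr.mem_CF (mem_IrrO.1 hψ).1)),
    Finset.sum_eq_single_of_mem γ h1, cfdot_conj, ← cfdot_ind_left inf_le_left _ (Irr.mem_CF h3),
    Irr.cfdot_self h3, mul_one, cfdot_res_left]
  intro γ' h4 hne
  rw [cfdot_res_left, cfdot_conj, ← cfdot_ind_left inf_le_left _ (Irr.mem_CF h3), mul_eq_zero]
  by_contra! h
  have h5 := over_of_cfdot_ne_zero hNT hT hI hθ hψ hN hle h4 h.1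
  exact hne (eq_of_ind_eq_of_over hN inf_le_left hK hθ le_rfl h4 h1 h5 h2
    (Irr.eq_of_cfdot_ne_zero (ind_mem_Irr_of_over hN inf_le_left hK hθ le_rfl h4 h5) h3 h.2))

/-- Restriction multiplicities are preserved by the Clifford correspondences. -/
theorem cfdot_ind_ind_over (hNC : N ≤ C) (hCK : C ≤ K) (hK : K ≤ normalizer (N : Set X))
    (hθ : θ ∈ Irr N) (hψ : ψ ∈ IrrO (K ⊓ inertia θ) N θ) (hγ : γ ∈ IrrO (C ⊓ inertia θ) N θ) :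
    cfdot C (ind (K ⊓ inertia θ) K ψ) (ind (C ⊓ inertia θ) C γ) = cfdot (C ⊓ inertia θ) ψ γ := by
  have hNI := CF.le_inertia (Irr.mem_CF hθ)
  have hC := hCK.trans hK
  have hle : C ⊓ inertia θ ≤ K ⊓ inertia θ := inf_le_inf_right _ hCK
  have hχ := ind_mem_InvO (S := ⊥) (hNC.trans hCK) hK bot_le ⟨hθ, bot_le⟩ ⟨hψ, bot_le⟩
  obtain ⟨h1, -⟩ := mem_IrrO.1 hχ.1
  obtain ⟨h2, h3⟩ := mem_IrrO.1 hγ
  have e1 : ∀ {H L : Subgroup X}, H ≤ L → ∀ φ ψ, cfdot H (res L φ) ψ = cfdot H φ ψ :=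
    fun h φ ψ => cfdot_congr (fun x hx => res_of_mem _ (h hx)) fun _ _ => rfl
  rw [← cfdot_res_left, cfdot_ind_right inf_le_left _ (res_mem_CF hCK (Irr.mem_CF h1)),
    e1 inf_le_left, ← cfdot_ind_right hle _ (Irr.mem_CF (mem_IrrO.1 hψ).1), ← e1 hle,
    ← cfdot_ind_right hle _ (res_mem_CF inf_le_left (Irr.mem_CF h1)), cfdot_res_left]
  have hδ : IsChar (K ⊓ inertia θ) (ind (C ⊓ inertia θ) (K ⊓ inertia θ) γ) :=
    (Irr.isChar h2).ind hle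
  rw [← cfdot_conj, ← cfdot_conj _ _ ψ, CF.eq_sum_Irr hδ.mem_CF, cfdot_sum_left, cfdot_sum_left]
  congr 1
  refine Finset.sum_congr rfl fun δ hδ' => ?_
  rw [cfdot_smul_left, cfdot_smul_left, mul_eq_mul_left_iff, or_iff_not_imp_right]
  intro h4
  rw [cfdot_ind_left hle _ (Irr.mem_CF hδ')] at h4
  exact cfdot_ind_inertia (hNC.trans hCK) hK hθ (le_inf (hNC.trans hCK) hNI) (inf_le_left.trans hK)
    inf_le_right (mem_IrrO.2 ⟨hδ', IsChar.cfdot_ne_zero_trans (le_inf hNC hNI) hle (Irr.isChar hδ')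
      h2 (Irr.isChar hθ) (fun e => h4 (cfdot_symm_zero e)) h3⟩) le_rfl hψ

end Inv

section Cor

variable {p : ℕ} {K C N S : Subgroup X} {θ χ ψ ξ γ : X → ℂ} {A B : Set (X → ℂ)}

/-- The multiplicity as a natural number. -/
noncomputable def ndot (H : Subgroup X) (φ ψ : X → ℂ) : ℕ := ⌊(cfdot H φ ψ).re⌋₊

theorem ndot_of_eq {n : ℕ} (h : cfdot C χ ψ = n) : ndot C χ ψ = n := by simp [ndot, h]

theorem ndot_cast (hCK : C ≤ K) (hχ : IsChar K χ) (hψ : IsChar C ψ) :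
    (ndot C χ ψ : ℂ) = cfdot C χ ψ := by
  obtain ⟨n, hn⟩ := hχ.exists_cfdot_res_nat hCK hψ
  rw [ndot_of_eq hn, hn]

theorem cfdot_ne_zero_of_ndot (h : (ndot C χ ψ : ZMod p) ≠ 0) : cfdot C χ ψ ≠ 0 := fun e =>
  h (by simp [ndot, e])

structure ModCor (p : ℕ) (C : Subgroup X) (A B : Set (X → ℂ)) : Prop where
  row : ∀ χ ∈ A, ∃ ξ ∈ B, ((ndot C χ ξ : ZMod p) = 1 ∨ (ndot C χ ξ : ZMod p) = -1) ∧
    ∀ ξ' ∈ B, (ndot C χ ξ' : ZMod p) ≠ 0 → ξ' = ξ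
  col : ∀ ξ ∈ B, ∃ χ ∈ A, (ndot C χ ξ : ZMod p) ≠ 0
  inj : ∀ χ ∈ A, ∀ χ' ∈ A, ∀ ξ ∈ B, (ndot C χ ξ : ZMod p) ≠ 0 → (ndot C χ' ξ : ZMod p) ≠ 0 →
    χ = χ'

theorem ne_zero_of_sign [Fact p.Prime] {a : ZMod p} (h : a = 1 ∨ a = -1) : a ≠ 0 := by
  rcases h with rfl | rfl <;> simp

/-- Transport along a pair of bijections preserving the multiplicities. -/
theorem ModCor.of_bijOn {C' : Subgroup Y} {A' B' : Set (Y → ℂ)} (h : ModCor p C' A' B')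
    {f g : (Y → ℂ) → X → ℂ} (hf : Set.BijOn f A' A) (hg : Set.BijOn g B' B)
    (e : ∀ χ ∈ A', ∀ ξ ∈ B', cfdot C (f χ) (g ξ) = cfdot C' χ ξ) : ModCor p C A B := by
  have e' : ∀ χ ∈ A', ∀ ξ ∈ B', ndot C (f χ) (g ξ) = ndot C' χ ξ := fun χ h1 ξ h2 => by
    rw [ndot, e χ h1 ξ h2, ndot]
  refine ⟨fun χ hχ => ?_, fun ξ hξ => ?_, fun χ hχ χ' hχ' ξ hξ h1 h2 => ?_⟩
  · obtain ⟨χ, h1, rfl⟩ := hf.surjOn hχ
    obtain ⟨ξ, h2, h3, h4⟩ := h.row χ h1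
    refine ⟨g ξ, hg.mapsTo h2, by rwa [e' χ h1 ξ h2], fun ξ' h5 h6 => ?_⟩
    obtain ⟨ξ', h7, rfl⟩ := hg.surjOn h5
    rw [h4 ξ' h7 (by rwa [← e' χ h1 ξ' h7])]
  · obtain ⟨ξ, h1, rfl⟩ := hg.surjOn hξ
    obtain ⟨χ, h2, h3⟩ := h.col ξ h1
    exact ⟨f χ, hf.mapsTo h2, by rwa [e' χ h2 ξ h1]⟩
  · obtain ⟨ξ, h3, rfl⟩ := hg.surjOn hξ
    obtain ⟨χ, h4, rfl⟩ := hf.surjOn hχ
    obtain ⟨χ', h5, rfl⟩ := hf.surjOn hχ'
    rw [h.inj χ h4 χ' h5 ξ h3 (by rwa [← e' χ h4 ξ h3]) (by rwa [← e' χ' h5 ξ h3])]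

/-- Restriction to compatible subsets. -/
theorem ModCor.sep [Fact p.Prime] (h : ModCor p C A B) {A' B' : Set (X → ℂ)} (hA : A' ⊆ A)
    (hB : B' ⊆ B) (e : ∀ χ ∈ A, ∀ ξ ∈ B, (ndot C χ ξ : ZMod p) ≠ 0 → (χ ∈ A' ↔ ξ ∈ B')) :
    ModCor p C A' B' := by
  refine ⟨fun χ hχ => ?_, fun ξ hξ => ?_, fun χ hχ χ' hχ' ξ hξ =>
    h.inj χ (hA hχ) χ' (hA hχ') ξ (hB hξ)⟩
  · obtain ⟨ξ, h1, h2, h3⟩ := h.row χ (hA hχ)
    exact ⟨ξ, (e χ (hA hχ) ξ h1 (ne_zero_of_sign h2)).1 hχ, h2, fun ξ' h4 => h3 ξ' (hB h4)⟩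
  · obtain ⟨χ, h1, h2⟩ := h.col ξ (hB hξ)
    exact ⟨χ, (e χ h1 ξ (hB hξ) h2).2 hξ, h2⟩

theorem ModCor.over [Fact p.Prime] (h : ModCor p C (InvIrr K S) (InvIrr C S)) (hNC : N ≤ C)
    (hCK : C ≤ K) (hK : K ≤ normalizer (N : Set X)) (hθ : θ ∈ Irr N) (hI : K ≤ inertia θ) :
    ModCor p C (InvO K N θ S) (InvO C N θ S) :=
  h.sep (fun _ h => ⟨(mem_IrrO.1 h.1).1, h.2⟩) (fun _ h => ⟨(mem_IrrO.1 h.1).1, h.2⟩)
    fun _ h1 _ h2 h3 => ⟨fun h4 => ⟨mem_IrrO.2 ⟨h2.1, over_of_cfdot_ne_zero (hNC.trans hCK) hK hI hθ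
      h4.1 hNC hCK h2.1 (cfdot_ne_zero_of_ndot h3)⟩, h2.2⟩,
      fun h4 => ⟨mem_IrrO.2 ⟨h1.1, IsChar.cfdot_ne_zero_trans hNC hCK (Irr.isChar h1.1) h2.1
        (Irr.isChar hθ) (cfdot_ne_zero_of_ndot h3) (mem_IrrO.1 h4.1).2⟩, h1.2⟩⟩

theorem bijOn_ind_InvO (hNK : N ≤ K) (hK : K ≤ normalizer (N : Set X))
    (hSK : S ≤ normalizer (K : Set X)) (hS : S ≤ normalizer (N : Set X)) (hθ : θ ∈ InvIrr N S) :
    Set.BijOn (ind (K ⊓ inertia θ) K) (InvO (K ⊓ inertia θ) N θ S) (InvO K N θ S) :=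
  ⟨fun _ h => ind_mem_InvO hNK hK hSK hθ h, fun _ h1 _ h2 e => eq_of_ind_eq_of_over
    (le_inf hNK (CF.le_inertia (Irr.mem_CF hθ.1))) inf_le_left hK hθ.1 le_rfl (mem_IrrO.1 h1.1).1
    (mem_IrrO.1 h2.1).1 (mem_IrrO.1 h1.1).2 (mem_IrrO.1 h2.1).2 e,
    fun _ h => exists_ind_eq_inv hNK hK hSK hS hθ h⟩

/-- The Clifford reduction. -/
theorem modCor_of_clifford [Fact p.Prime] (hNC : N ≤ C) (hCK : C ≤ K)
    (hK : K ≤ normalizer (N : Set X)) (hSK : S ≤ normalizer (K : Set X))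
    (hSC : S ≤ normalizer (C : Set X)) (hS : S ≤ normalizer (N : Set X))
    (hc : (Nat.card S).Coprime (N.relIndex K))
    (hC : ∀ c ∈ K, (∀ s ∈ S, s * c * s⁻¹ * c⁻¹ ∈ N) → c ∈ C)
    (h : ∀ θ ∈ InvIrr N S, ModCor p (C ⊓ inertia θ) (InvO (K ⊓ inertia θ) N θ S)
      (InvO (C ⊓ inertia θ) N θ S)) : ModCor p C (InvIrr K S) (InvIrr C S) := by
  have hC' := hCK.trans hK
  have hNK := hNC.trans hCK
  have hc' := hc.coprime_dvd_right (relIndex_dvd_relIndex_of_le_normalizer hCK hK)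
  have h1 : ∀ θ ∈ InvIrr N S, ModCor p C (InvO K N θ S) (InvO C N θ S) := fun θ hθ =>
    (h θ hθ).of_bijOn (bijOn_ind_InvO hNK hK hSK hS hθ) (bijOn_ind_InvO hNC hC' hSC hS hθ)
      fun _ h1 _ h2 => cfdot_ind_ind_over hNC hCK hK hθ.1 h1.1 h2.1
  have h2 : ∀ θ ∈ InvIrr N S, ∀ χ ∈ InvIrr K S, ∀ ξ ∈ InvO C N θ S, cfdot C χ ξ ≠ 0 →
      χ ∈ InvO K N θ S := fun θ hθ χ hχ ξ hξ hne =>
    ⟨mem_IrrO.2 ⟨hχ.1, IsChar.cfdot_ne_zero_trans hNC hCK (Irr.isChar hχ.1) (mem_IrrO.1 hξ.1).1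
      (Irr.isChar hθ.1) hne (mem_IrrO.1 hξ.1).2⟩, hχ.2⟩
  refine ⟨fun χ hχ => ?_, fun ξ hξ => ?_, fun χ hχ χ' hχ' ξ hξ h3 h4 => ?_⟩
  · obtain ⟨θ, hθ, h3⟩ := exists_inv_below hNK hK hSK hS hc hχ
    obtain ⟨ξ, h4, h5, h6⟩ := (h1 θ hθ).row χ ⟨mem_IrrO.2 ⟨hχ.1, h3⟩, hχ.2⟩
    refine ⟨ξ, ⟨(mem_IrrO.1 h4.1).1, h4.2⟩, h5, fun ξ' h7 h8 => h6 ξ' ⟨mem_IrrO.2 ⟨h7.1, ?_⟩, h7.2⟩ h8⟩
    obtain ⟨θ', hθ', h9⟩ := exists_inv_below hNC hC' hSC hS hc' h7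
    obtain ⟨k, hk, rfl⟩ := mem_cfclass.1 (Irr.mem_cfclass_of_over hNK hK hχ.1 hθ.1 hθ'.1 h3
      (mem_IrrO.1 (h2 θ' hθ' χ hχ ξ' ⟨mem_IrrO.2 ⟨h7.1, h9⟩, h7.2⟩
        (cfdot_ne_zero_of_ndot h8)).1).2)
    obtain ⟨c, hc1, hc2, hc3⟩ := exists_fixed_cfConj_eq hK hSK hS hc hθ.2 hk hθ'.2
    rwa [← hc3, CF.cfdot_eq_of_mem_cfclass' hC' (Irr.mem_CF h7.1) (hC c hc1 hc2)] at h9
  · obtain ⟨θ, hθ, h3⟩ := exists_inv_below hNC hC' hSC hS hc' hξ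
    obtain ⟨χ, h4, h5⟩ := (h1 θ hθ).col ξ ⟨mem_IrrO.2 ⟨hξ.1, h3⟩, hξ.2⟩
    exact ⟨χ, ⟨(mem_IrrO.1 h4.1).1, h4.2⟩, h5⟩
  · obtain ⟨θ, hθ, h5⟩ := exists_inv_below hNC hC' hSC hS hc' hξ
    have h6 : ξ ∈ InvO C N θ S := ⟨mem_IrrO.2 ⟨hξ.1, h5⟩, hξ.2⟩
    exact (h1 θ hθ).inj χ (h2 θ hθ χ hχ ξ h6 (cfdot_ne_zero_of_ndot h3)) χ'
      (h2 θ hθ χ' hχ' ξ h6 (cfdot_ne_zero_of_ndot h4)) ξ h6 h3 h4

variable {W G U : Subgroup X} {π : Γ →* X} {q : Γ →* Y} {μ : Y → ℂ} {Φ : (Y → ℂ) → X → ℂ}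

theorem Triple.bijOn_InvO (h : Triple W G N θ π q μ Φ) (hU : N ≤ U) (hG : U ≤ G) (hS : S ≤ W)
    (hSU : S ≤ normalizer (U : Set X)) :
    Set.BijOn Φ (InvO (up π q U) (up π q N) μ (up π q S)) (InvO U N θ S) := by
  have h1 := h.bij U hU hG
  have h2 : ∀ β ∈ IrrO (up π q U) (up π q N) μ, S ≤ inertia (Φ β) ↔ up π q S ≤ inertia β :=
    fun β hβ => ⟨by
      rintro h3 _ ⟨g, hg, rfl⟩
      exact (h.mem_inertia_iff hU hG hβ (hSU hg)).1 (h3 hg), fun h3 s hs => by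
      obtain ⟨g, rfl⟩ := h.exists_lift (hS hs)
      exact (h.mem_inertia_iff hU hG hβ (hSU hs)).2 (h3 ⟨g, hs, rfl⟩)⟩
  refine ⟨fun β hβ => ⟨h1.mapsTo hβ.1, (h2 β hβ.1).2 hβ.2⟩, fun _ h3 _ h4 => h1.injOn h3.1 h4.1,
    fun χ hχ => ?_⟩
  obtain ⟨β, hβ, rfl⟩ := h1.surjOn hχ.1
  exact ⟨β, ⟨hβ, (h2 β hβ).1 hχ.2⟩, rfl⟩

theorem Triple.modCor (h : Triple W G N θ π q μ Φ) (hNC : N ≤ C) (hCK : C ≤ K) (hG : K ≤ G)
    (hS : S ≤ W) (hSK : S ≤ normalizer (K : Set X)) (hSC : S ≤ normalizer (C : Set X))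
    (h1 : ModCor p (up π q C) (InvO (up π q K) (up π q N) μ (up π q S))
      (InvO (up π q C) (up π q N) μ (up π q S))) : ModCor p C (InvO K N θ S) (InvO C N θ S) :=
  h1.of_bijOn (h.bijOn_InvO (hNC.trans hCK) hG hS hSK) (h.bijOn_InvO hNC (hCK.trans hG) hS hSC)
    fun _ h2 _ h3 => h.dot C hNC (hCK.trans hG) _ _ (h.eqv (up_mono π q (hNC.trans hCK)) h2.1)
      (h.eqv (up_mono π q hNC) h3.1)

end Cor

end Cfsg.Lib.Rel
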