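import Cfsg.Agent.Lib.Rel.Cor
import Cfsg.Agent.Lib.CharDeg.GlaubermanSolvable
import Cfsg.Agent.Lib.CharDeg.CoprimeConst

/-!
# The Glauberman correspondence for ambient characters; the reduction to a central subgroup
-/

set_option autoImplicit false
set_option linter.unusedSectionVars false

namespace Cfsg.Lib.Rel

open Cfsg.Lib.PF Cfsg.Lib.Coprime Cfsg.Lib.CharDeg Subgroup
open scoped ComplexConjugate

universe u

variable {X Y Γ : Type*} [Group X] [Group Y] [Group Γ] [Finite X] [Finite Y] [Finite Γ]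
variable {p : ℕ} {K C N S P T : Subgroup X} {θ χ ψ ξ γ : X → ℂ}

theorem ext_mem_Irr (χ : IrrCharacter K) : extendByZero K χ.1 ∈ Irr K := extendByZero_mem_Irr.2 χ.2

theorem exists_eq_ext (h : χ ∈ Irr K) : ∃ χ' : IrrCharacter K, extendByZero K χ'.1 = χ :=
  ⟨⟨_, (mem_Irr.1 h).2⟩, extendByZero_coe_eq (mem_Irr.1 h).1⟩

theorem ext_injective {χ ψ : IrrCharacter K} (h : extendByZero K χ.1 = extendByZero K ψ.1) :
    χ = ψ := Subtype.ext (by rw [← coe_extendByZero K χ.1, h, coe_extendByZero])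

theorem cfdot_ext [Fintype C] (hCK : C ≤ K) (χ : K → ℂ) (ξ : C → ℂ) :
    cfdot C (extendByZero K χ) (extendByZero C ξ) =
      classInner (fun c : C => χ ⟨c, hCK c.2⟩) ξ := by
  rw [cfdot_eq_classInner, coe_extendByZero]
  congr 1
  exact funext fun c => Induce.extendByZero_of_mem _ _ (hCK c.2)

theorem ndot_ext [Fintype C] (hCK : C ≤ K) (χ : IrrCharacter K) (ξ : IrrCharacter C) :
    ndot C (extendByZero K χ.1) (extendByZero C ξ.1) = resMult (inclusion hCK) χ ξ :=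
  ndot_of_eq ((cfdot_ext hCK _ _).trans (inner_eq_resMult (inclusion hCK) χ ξ))

theorem le_inertia_ext_iff (hS : S ≤ normalizer (K : Set X)) (χ : IrrCharacter K) :
    S ≤ inertia (extendByZero K χ.1) ↔
      ∀ s ∈ S, ∀ g g' : K, (g' : X) = s * g * s⁻¹ → χ.1 g' = χ.1 g :=
  ⟨fun h s hs g g' e => by
    have := mem_inertia_iff.1 (h hs) g
    rwa [← e, Induce.extendByZero_coe, Induce.extendByZero_coe] at this,
   fun h s hs => mem_inertia_of (Irr.mem_CF (ext_mem_Irr χ)) (hS hs) fun x hx => by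
    rw [Induce.extendByZero_of_mem _ _ hx,
      Induce.extendByZero_of_mem _ _ (conj_mem_of_mem_normalizer (hS hs) hx)]
    exact h s hs _ _ rfl⟩

theorem deg_ext (χ : IrrCharacter K) : deg (extendByZero K χ.1) = charDegree χ.1 :=
  deg_of_eq ((Induce.extendByZero_coe K χ.1 1).trans (Char.Cfsg.IsIrrCharacter.apply_one_eq χ.2))

theorem ModCor.exists_equiv [Fact p.Prime] [Fintype C] {A B : Set (X → ℂ)} (h : ModCor p C A B)
    (hCK : C ≤ K) {a : IrrCharacter K → Prop} {b : IrrCharacter C → Prop} (hA : A ⊆ Irr K)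
    (hB : B ⊆ Irr C) (ha : ∀ χ, a χ ↔ extendByZero K χ.1 ∈ A)
    (hb : ∀ χ, b χ ↔ extendByZero C χ.1 ∈ B) :
    ∃ f : {χ // a χ} → {ξ // b ξ}, Function.Bijective f ∧ ∀ χ ξ,
      (ξ = f χ → (resMult (inclusion hCK) χ.1 ξ.1 : ZMod p) = 1 ∨
        (resMult (inclusion hCK) χ.1 ξ.1 : ZMod p) = -1) ∧
      (ξ ≠ f χ → (resMult (inclusion hCK) χ.1 ξ.1 : ZMod p) = 0) := by
  have h1 : ∀ χ : {χ // a χ}, ∃ ξ : {ξ // b ξ}, ((resMult (inclusion hCK) χ.1 ξ.1 : ZMod p) = 1 ∨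
      (resMult (inclusion hCK) χ.1 ξ.1 : ZMod p) = -1) ∧
      ∀ ξ' : {ξ // b ξ}, (resMult (inclusion hCK) χ.1 ξ'.1 : ZMod p) ≠ 0 → ξ' = ξ := fun χ => by
    obtain ⟨ξ, h2, h3, h4⟩ := h.row _ ((ha _).1 χ.2)
    obtain ⟨ξ, rfl⟩ := exists_eq_ext (hB h2)
    exact ⟨⟨ξ, (hb _).2 h2⟩, by rwa [← ndot_ext], fun ξ' h5 =>
      Subtype.ext (ext_injective (h4 _ ((hb _).1 ξ'.2) (by rwa [ndot_ext])))⟩
  choose f h2 h3 using h1
  refine ⟨f, ⟨fun χ χ' e => Subtype.ext (ext_injective (h.inj _ ((ha _).1 χ.2) _ ((ha _).1 χ'.2) _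
    ((hb _).1 (f χ).2) ?_ ?_)), fun ξ => ?_⟩, fun χ ξ => ⟨fun e => e ▸ h2 χ, fun hne => ?_⟩⟩
  · rw [ndot_ext hCK]; exact ne_zero_of_sign (h2 χ)
  · rw [ndot_ext hCK, e]; exact ne_zero_of_sign (h2 χ')
  · obtain ⟨χ, h4, h5⟩ := h.col _ ((hb _).1 ξ.2)
    obtain ⟨χ, rfl⟩ := exists_eq_ext (hA h4)
    exact ⟨⟨χ, (ha _).2 h4⟩, (h3 _ ξ (by rwa [← ndot_ext])).symm⟩
  · by_contra h4
    exact hne (h3 χ ξ h4)

theorem modCor_aut [Fact p.Prime] {R : Type*} [Group R] (hR : IsPGroup p R) (φ : R →* MulAut K)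
    (hCK : C ≤ K) (hfix : ∀ x : K, (∀ s, φ s x = x) ↔ (x : X) ∈ C) (hK : ¬ p ∣ Nat.card K) :
    ModCor p C {χ | χ ∈ Irr K ∧ ∀ s (g : K), χ (φ s g) = χ g} (Irr C) := by
  have := Fintype.ofFinite K
  have := Fintype.ofFinite C
  obtain ⟨f, hf⟩ := exists_glauberman_equiv hR φ (inclusion hCK) (inclusion_injective _)
    (fun x => (hfix x).trans ⟨fun h => ⟨⟨x, h⟩, rfl⟩, by rintro ⟨c, rfl⟩; exact c.2⟩) hK
  have h1 : ∀ χ ξ, (ndot C (extendByZero K χ.1.1) (extendByZero C ξ.1) : ZMod p) ≠ 0 → ξ = f χ :=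
    fun χ ξ h => by
      by_contra hne
      exact h (by rw [ndot_ext hCK]; exact (hf χ ξ).2 hne)
  have h2 : ∀ χ ∈ {χ | χ ∈ Irr K ∧ ∀ s (g : K), χ (φ s g) = χ g},
      ∃ χ' : {χ : IrrCharacter K // ∀ s g, (χ : K → ℂ) (φ s g) = (χ : K → ℂ) g},
        extendByZero K χ'.1.1 = χ := fun χ hχ =>
    ⟨⟨⟨_, (mem_Irr.1 hχ.1).2⟩, hχ.2⟩, extendByZero_coe_eq (mem_Irr.1 hχ.1).1⟩
  refine ⟨fun χ hχ => ?_, fun ξ hξ => ?_, fun χ hχ χ' hχ' ξ hξ h3 h4 => ?_⟩
  · obtain ⟨χ, rfl⟩ := h2 χ hχ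
    refine ⟨_, ext_mem_Irr (f χ), by rw [ndot_ext hCK]; exact (hf χ _).1 rfl, fun ξ' h3 h4 => ?_⟩
    obtain ⟨ξ', rfl⟩ := exists_eq_ext h3
    rw [h1 χ ξ' h4]
  · obtain ⟨ξ, rfl⟩ := exists_eq_ext hξ
    obtain ⟨χ, rfl⟩ := f.surjective ξ
    refine ⟨_, ⟨ext_mem_Irr χ.1, fun s g => ?_⟩, ?_⟩
    · rw [Induce.extendByZero_coe, Induce.extendByZero_coe, χ.2]
    · rw [ndot_ext hCK]; exact ne_zero_of_sign ((hf χ _).1 rfl)
  · obtain ⟨ξ, rfl⟩ := exists_eq_ext hξ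
    obtain ⟨χ, rfl⟩ := h2 χ hχ
    obtain ⟨χ', rfl⟩ := h2 χ' hχ'
    rw [f.injective ((h1 χ ξ h3).symm.trans (h1 χ' ξ h4))]

theorem invIrr_centralizer (K S : Subgroup X) :
    InvIrr (K ⊓ centralizer (S : Set X)) S = Irr (K ⊓ centralizer (S : Set X)) :=
  Set.ext fun _ => ⟨fun h => h.1, fun h => ⟨h, fun s hs => mem_inertia_of (Irr.mem_CF h)
    (le_normalizer_inf_centralizer S K hs) fun x hx => by rw [hx.2 s hs, mul_inv_cancel_right]⟩⟩

/-- **The Glauberman correspondence** for ambient characters. -/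
theorem modCor_glauberman [Fact p.Prime] (hP : IsPGroup p P) (hPK : P ≤ normalizer (K : Set X))
    (hK : ¬ p ∣ Nat.card K) : ModCor p (K ⊓ centralizer (P : Set X)) (InvIrr K P)
      (InvIrr (K ⊓ centralizer (P : Set X)) P) := by
  rw [invIrr_centralizer]
  convert modCor_aut hP (conjAut hPK) inf_le_left
    (fun x => (conjAut_fixed_iff hPK x).trans (and_iff_right x.2).symm) hK with χ
  exact Set.ext fun χ => and_congr_right fun h => ⟨fun h1 s g => mem_inertia_iff.1 (h1 s.2) g,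
    fun h1 s hs => mem_inertia_of (Irr.mem_CF h) (hPK hs) fun x hx => h1 ⟨s, hs⟩ ⟨x, hx⟩⟩

theorem invO_sup {U : Subgroup X} (hNU : N ≤ U) : InvO U N θ (N ⊔ S) = InvO U N θ S :=
  Set.ext fun _ => and_congr_right fun h => ⟨le_sup_right.trans, fun h1 =>
    sup_le (hNU.trans (CF.le_inertia (Irr.mem_CF (mem_IrrO.1 h).1))) h1⟩

variable {W G U : Subgroup X} {π : Γ →* X} {q : Γ →* Y} {μ : Y → ℂ} {Φ : (Y → ℂ) → X → ℂ}

theorem Triple.exists_compl (h : Triple W G N θ π q μ Φ) (hS : S ≤ W)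
    (hn : S ≤ normalizer (N : Set X)) (hc : (Nat.card S).Coprime (Nat.card (up π q N))) :
    ∃ S₁ : Subgroup Y, up π q N ⊔ S₁ = up π q (N ⊔ S) ∧ Nat.card S₁ = N.relIndex S := by
  have e : (up π q N).relIndex (up π q (N ⊔ S)) = N.relIndex S := by
    rw [h.relIndex_up le_rfl (sup_le (h.le.trans h.le') hS), relIndex_sup_of_le_normalizer hn]
  obtain ⟨B, -, -, h1, h2⟩ := exists_complement (up_mono π q (le_sup_left : N ≤ N ⊔ S))
    (fun y _ => h.mem_normalizer_bot y)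
    (by rw [e]; exact (hc.coprime_dvd_left (relIndex_dvd_card _ _)).symm)
  exact ⟨B, h1, h2.trans e⟩

theorem Triple.up_eq_inf_centralizer (h : Triple W G N θ π q μ Φ) (hS : S ≤ W)
    (hn : W ≤ normalizer (N : Set X)) {S₁ : Subgroup Y} (h1 : up π q N ⊔ S₁ = up π q (N ⊔ S))
    (hc : (Nat.card S₁).Coprime (Nat.card (up π q N))) (hNK : N ≤ K)
    (hC : ∀ c, c ∈ C ↔ c ∈ K ∧ ∀ s ∈ S, s * c * s⁻¹ * c⁻¹ ∈ N) :
    up π q C = up π q K ⊓ centralizer (S₁ : Set Y) := by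
  have hNC : N ≤ C := fun n hn' => (hC n).2 ⟨hNK hn', fun s hs =>
    N.mul_mem (conj_mem_of_mem_normalizer (hn (hS hs)) hn') (N.inv_mem hn')⟩
  ext y
  obtain ⟨g, rfl⟩ := h.surj y
  rw [h.mem_up hNC, mem_inf, h.mem_up hNK, hC]
  refine and_congr_right fun _ => ⟨fun h2 t ht => ?_, fun h2 s hs => ?_⟩
  · obtain ⟨g', rfl⟩ := h.surj t
    obtain ⟨n, hn', s, hs, e⟩ := (mem_sup_left_of_le_normalizer (hS.trans hn)).1
      ((h.mem_up le_sup_left).1 (h1.le (mem_sup_right ht)))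
    have h3 : q g' * q g * (q g')⁻¹ * (q g)⁻¹ ∈ up π q N := by
      rw [← map_inv, ← map_inv, ← map_mul, ← map_mul, ← map_mul, h.mem_up le_rfl]
      simp only [map_mul, map_inv, ← e]
      have := N.mul_mem (N.mul_mem hn' (h2 s hs))
        (conj_mem_of_mem_normalizer (hn (h.mem g)) (N.inv_mem hn'))
      convert this using 1; group
    exact commutator_eq_one_of_commute (mem_center_iff.1 (h.cent h3) _)
      (orderOf_coprime_of_mem hc ht h3)
  · obtain ⟨g', rfl⟩ := h.exists_lift (hS hs)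
    obtain ⟨z, hz, t, ht, e⟩ := (mem_sup_left_of_le_normalizer fun y _ => h.mem_normalizer_bot y).1
      (h1.ge ((h.mem_up le_sup_left).2 (mem_sup_right hs)))
    rw [← map_inv, ← map_inv, ← map_mul, ← map_mul, ← map_mul, ← h.mem_up le_rfl]
    simp only [map_mul, map_inv, ← e]
    rw [mul_assoc z, h2 t ht, ← mul_assoc z, ← mem_center_iff.1 (h.cent hz)]
    convert (up π q N).one_mem using 1; group

/-- Reduction of a correspondence for a coprime action on a section to a central subgroup. -/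
theorem modCor_reduce {X : Type u} [Group X] [Finite X] {K C N S : Subgroup X} [Fact p.Prime]
    (hNK : N ≤ K) (hK : K ≤ normalizer (N : Set X)) (hSK : S ≤ normalizer (K : Set X))
    (hS : S ≤ normalizer (N : Set X)) (hc : (Nat.card S).Coprime (N.relIndex K))
    (hC : ∀ c, c ∈ C ↔ c ∈ K ∧ ∀ s ∈ S, s * c * s⁻¹ * c⁻¹ ∈ N)
    (h : ∀ θ ∈ InvIrr N S, ∀ (Γ Y : Type u) [Group Γ] [Finite Γ] [Group Y] [Finite Y] (π : Γ →* X)
      (q : Γ →* Y) (μ : Y → ℂ) (Φ : (Y → ℂ) → X → ℂ) (S₁ : Subgroup Y),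
      Triple (K ⊓ inertia θ ⊔ S) (K ⊓ inertia θ) N θ π q μ Φ →
      (∀ m : ℕ, m.Coprime (N.relIndex K) → m.Coprime (Nat.card (up π q (K ⊓ inertia θ)))) →
      up π q N ⊔ S₁ = up π q (N ⊔ S) → Nat.card S₁ ∣ Nat.card S →
      up π q (C ⊓ inertia θ) = up π q (K ⊓ inertia θ) ⊓ centralizer (S₁ : Set Y) →
      ModCor p (up π q (C ⊓ inertia θ)) (InvIrr (up π q (K ⊓ inertia θ)) S₁)
        (InvIrr (up π q (C ⊓ inertia θ)) S₁)) : ModCor p C (InvIrr K S) (InvIrr C S) := by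
  have hNC : N ≤ C := fun n hn' => (hC n).2 ⟨hNK hn', fun s hs =>
    N.mul_mem (conj_mem_of_mem_normalizer (hS hs) hn') (N.inv_mem hn')⟩
  have hCK : C ≤ K := fun c hc => ((hC c).1 hc).1
  have hSC : S ≤ normalizer (C : Set X) := fun s hs => mem_normalizer_fintype fun c hc => by
    simpa using C.mul_mem (hNC (((hC c).1 hc).2 s hs)) hc
  refine modCor_of_clifford hNC hCK hK hSK hSC hS hc (fun c h1 h2 => (hC c).2 ⟨h1, h2⟩)
    fun θ hθ => ?_
  have hNI := CF.le_inertia (Irr.mem_CF hθ.1)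
  have hST := le_normalizer_inf hSK (le_normalizer_inertia hθ.2)
  have hSD := le_normalizer_inf hSC (le_normalizer_inertia hθ.2)
  have hW : K ⊓ inertia θ ⊔ S ≤ normalizer (N : Set X) := sup_le (inf_le_left.trans hK) hS
  obtain ⟨Γ, Y, _, _, _, _, π, q, μ, Φ, h1, h2⟩ := exists_triple (W := K ⊓ inertia θ ⊔ S)
    (le_inf hNK hNI) le_sup_left (sup_le le_normalizer hST) hW hθ.1 (sup_le inf_le_right hθ.2)
  have hd := relIndex_dvd_relIndex_of_le_normalizer (inf_le_left : K ⊓ inertia θ ≤ K) hK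
  have h3 := h2 _ (hc.coprime_dvd_right hd)
  obtain ⟨S₁, h4, h5⟩ := h1.exists_compl le_sup_right hS h3
  have h6 : Nat.card S₁ ∣ Nat.card S := h5 ▸ relIndex_dvd_card _ _
  have h7 := h θ hθ Γ Y π q μ Φ S₁ h1 (fun m hm => by
    rw [h1.card_up h1.le le_sup_left]
    exact Nat.Coprime.mul_right (h2 m (hm.coprime_dvd_right hd)) (hm.coprime_dvd_right hd)) h4 h6
    (h1.up_eq_inf_centralizer le_sup_right hW h4 (h3.coprime_dvd_left h6) h1.le fun c => by
      rw [mem_inf, hC, mem_inf]; tauto)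
  have hND : N ≤ C ⊓ inertia θ := le_inf hNC hNI
  have hDT : C ⊓ inertia θ ≤ K ⊓ inertia θ := inf_le_inf_right _ hCK
  rw [← invO_sup h1.le, ← invO_sup hND]
  refine h1.modCor hND hDT le_rfl (sup_le (h1.le.trans h1.le') le_sup_right)
    (sup_le (h1.le.trans le_normalizer) hST) (sup_le (hND.trans le_normalizer) hSD) ?_
  rw [← h4, invO_sup (up_mono π q h1.le), invO_sup (up_mono π q hND)]
  exact h7.over (up_mono π q hND) (up_mono π q hDT) (fun y _ => h1.mem_normalizer_bot y) h1.irr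
    fun y _ => h1.inertia_eq y

/-- The Glauberman correspondence for a `p`-group acting on a `p'`-section `K/N`. -/
theorem modCor_relGlauberman {X : Type u} [Group X] [Finite X] {K C N P : Subgroup X}
    [hp : Fact p.Prime] (hP : IsPGroup p P) (hNK : N ≤ K) (hK : K ≤ normalizer (N : Set X))
    (hPK : P ≤ normalizer (K : Set X)) (hPN : P ≤ normalizer (N : Set X))
    (hc : ¬ p ∣ N.relIndex K) (hC : ∀ c, c ∈ C ↔ c ∈ K ∧ ∀ s ∈ P, s * c * s⁻¹ * c⁻¹ ∈ N) :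
    ModCor p C (InvIrr K P) (InvIrr C P) := by
  obtain ⟨k, hk⟩ := IsPGroup.iff_card.1 hP
  have hc' := (hp.out.coprime_iff_not_dvd).2 hc
  refine modCor_reduce hNK hK hPK hPN (hk ▸ hc'.pow_left k) hC
    fun θ hθ Γ Y _ _ _ _ π q μ Φ S₁ h1 h2 h3 h4 h5 => ?_
  obtain ⟨j, -, hj⟩ := (Nat.dvd_prime_pow hp.out).1 (hk ▸ h4)
  rw [h5]
  refine modCor_glauberman (IsPGroup.of_card hj) (le_sup_right.trans (h3.le.trans
    (h1.le_normalizer h1.le (sup_le (h1.le.trans le_normalizer)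
      (le_normalizer_inf hPK (le_normalizer_inertia hθ.2))))))
    ((hp.out.coprime_iff_not_dvd).1 (h2 p hc'))

/-- An invariant character lies under an invariant character (coprime sections). -/
theorem exists_inv_above {X : Type u} [Group X] [Finite X] {K N S : Subgroup X} {θ : X → ℂ}
    (hNK : N ≤ K) (hK : K ≤ normalizer (N : Set X)) (hSK : S ≤ normalizer (K : Set X))
    (hS : S ≤ normalizer (N : Set X)) (hc : (Nat.card S).Coprime (Nat.card K))
    (hθ : θ ∈ InvIrr N S) : ∃ χ, χ ∈ InvO K N θ S := by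
  have := Fintype.ofFinite N
  obtain ⟨h0, hθ⟩ := hθ
  obtain ⟨θ, rfl⟩ := exists_eq_ext h0
  have hr : (inclusion hNK).range.Normal := by
    rw [inclusion_range]; exact normal_subgroupOf hNK hK
  have h3 : ∀ (a : S) (n : N), inclusion hNK (conjAut hS a n) = conjAut hSK a (inclusion hNK n) :=
    fun _ _ => Subtype.ext rfl
  have h4 : ∀ (a : S) (n : N), (θ : N → ℂ) (conjAut hS a n) = (θ : N → ℂ) n :=
    fun a n => (le_inertia_ext_iff hS θ).1 hθ a a.2 n _ rfl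
  have h5 : ∃ χ : IrrCharacter K, resMult (inclusion hNK) χ θ ≠ 0 ∧
      ∀ a g, (χ : K → ℂ) (conjAut hSK a g) = (χ : K → ℂ) g := by
    rcases isSolvable_or_of_coprime hc with hs | hs
    · exact exists_invariant_above hs K N (conjAut hSK) (conjAut hS) (inclusion hNK)
        (inclusion_injective _) hr h3 hc.symm θ h4
    · exact exists_invariant_above_of_solvable (conjAut hS) ⊥ θ h4 K (conjAut hSK) (inclusion hNK)
        (inclusion_injective _) h3 (fun a ha => ⟨1, fun g => by simp [mem_bot.mp ha]⟩)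
        (by rw [index_bot]; exact hc.coprime_dvd_right (index_dvd_card _)) inferInstance
  obtain ⟨χ, h1, h2⟩ := h5
  have h6 := resMult_ne_zero_iff.1 h1
  have h7 := (forall_conjAut_iff hSK (R := fun g g' => (χ : K → ℂ) g' = (χ : K → ℂ) g)).2 h2
  exact ⟨_, mem_IrrO.2 ⟨ext_mem_Irr χ, (cfdot_ext hNK χ.1 θ.1).trans_ne h6⟩,
    (le_inertia_ext_iff hSK χ).2 h7⟩

/-- Isaacs (13.31). -/
theorem exists_inv_above_of_index {X : Type u} [Group X] [Finite X] {W K N : Subgroup X}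
    {θ : X → ℂ} (hNK : N ≤ K) (hKW : K ≤ W) (hK : W ≤ normalizer (K : Set X))
    (hN : W ≤ normalizer (N : Set X)) (hc : (K.relIndex W).Coprime (N.relIndex K))
    (hθ : θ ∈ InvIrr N W) : ∃ χ, χ ∈ InvO K N θ W := by
  obtain ⟨Γ, Y, _, _, _, _, π, q, μ, Φ, h1, h2⟩ := exists_triple hNK hKW hK hN hθ.1 hθ.2
  have h3 : (Nat.card (up π q K)).Coprime ((up π q K).relIndex (up π q W)) := by
    rw [h1.card_up hNK hKW, h1.relIndex_up hNK le_rfl]
    exact (Nat.Coprime.mul_right (h2 _ hc) hc).symm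
  have h4 := h1.le_normalizer hNK hK
  obtain ⟨B, h5, -, h6, h7⟩ := exists_complement (up_mono π q hKW) h4 h3
  obtain ⟨β, h8, h9⟩ := exists_inv_above (up_mono π q hNK) (fun y _ => h1.mem_normalizer_bot y)
    (h5.trans h4) (fun y _ => h1.mem_normalizer_bot y) (h7 ▸ h3.symm)
    ⟨h1.irr, fun y _ => h1.inertia_eq y⟩
  exact ⟨Φ β, (h1.bijOn_InvO hNK le_rfl le_rfl hK).mapsTo
    ⟨h8, h6 ▸ sup_le (CF.le_inertia (Irr.mem_CF (mem_IrrO.1 h8).1)) h9⟩⟩

end Cfsg.Lib.Rel
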