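import Cfsg.Agent.Lib.Rel.Glaub
import Cfsg.Agent.Lib.Coprime.Supplement
import Cfsg.Agent.Lib.Transfer.SylowIn

/-!
# Extendibility and Gallagher's count of the characters over an invariant character
-/

set_option autoImplicit false
set_option linter.unusedSectionVars false

namespace Cfsg.Lib.Rel

open Cfsg.Lib.PF Cfsg.Lib.Char Cfsg.Lib.Coprime Subgroup
open scoped ComplexConjugate commutatorElement

universe u

variable {X Y Γ : Type*} [Group X] [Group Y] [Group Γ] [Finite X] [Finite Y] [Finite Γ]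
variable {p : ℕ} {G H U V N Q A Z : Subgroup X} {θ χ ψ φ η μ : X → ℂ}

/-- `θ` extends from `N` to `U`. -/
def Extends (U N : Subgroup X) (θ : X → ℂ) : Prop := ∃ χ ∈ Irr U, res N χ = θ

theorem cfdot_of_res (hθ : θ ∈ Irr N) (e : res N χ = θ) : cfdot N χ θ = 1 := by
  rw [← cfdot_res_left, e, Irr.cfdot_self hθ]

theorem mem_IrrO_of_res (hθ : θ ∈ Irr N) (hχ : χ ∈ Irr U) (e : res N χ = θ) : χ ∈ IrrO U N θ :=
  mem_IrrO.2 ⟨hχ, by rw [cfdot_of_res hθ e]; exact one_ne_zero⟩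

theorem res_eq_of_deg (hNU : N ≤ U) (hθ : θ ∈ Irr N) (hχ : χ ∈ IrrO U N θ) (h : deg χ ≤ deg θ) :
    res N χ = θ :=
  ((Irr.isChar (mem_IrrO.1 hχ).1).res hNU).eq_of_deg_le hθ
    (by rw [cfdot_res_left]; exact (mem_IrrO.1 hχ).2) (by rwa [deg_res])

theorem res_mem_Irr_of_res (hNV : N ≤ V) (hVU : V ≤ U) (hχ : IsChar U χ) (h : res N χ ∈ Irr N) :
    res V χ ∈ Irr V := by
  obtain ⟨ψ, h1, h2⟩ := (hχ.res hVU).exists_constituent fun e =>
    Irr.apply_one_ne_zero h (by simpa using congrFun e 1)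
  obtain ⟨θ, h3, h4⟩ := Irr.exists_res_constituent hNV h1
  have h5 := (hχ.res hVU).cfdot_ne_zero_trans hNV le_rfl h1 (Irr.isChar h3) h2 h4
  rw [← cfdot_res_left, res_res hNV] at h5
  have h6 := ((Irr.isChar h1).res hNV).deg_le_of_cfdot h3 (by rwa [cfdot_res_left])
  rw [← Irr.eq_of_cfdot_ne_zero h h3 h5, deg_res, deg_res] at h6
  rwa [(hχ.res hVU).eq_of_deg_le h1 h2 (by rwa [deg_res])]

theorem Extends.mono (h : Extends U N θ) (hθ : θ ∈ Irr N) (hNV : N ≤ V) (hVU : V ≤ U) :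
    Extends V N θ := by
  obtain ⟨χ, h1, h2⟩ := h
  exact ⟨_, res_mem_Irr_of_res hNV hVU (Irr.isChar h1) (h2 ▸ hθ), by rw [res_res hNV, h2]⟩

theorem exists_deg_eq_mul (hNG : N ≤ G) (hn : G ≤ normalizer (N : Set X)) (hθ : θ ∈ Irr N)
    (hχ : χ ∈ IrrO G N θ) : ∃ k, k ∣ N.relIndex G ∧ deg χ = k * deg θ := by
  have := normal_subgroupOf hNG hn
  have := Fintype.ofFinite (N.subgroupOf G)
  obtain ⟨h1, h2⟩ := mem_IrrO.1 hχ
  have h3 := Irr.isIrrCharacter_subgroupOf hNG hθ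
  obtain ⟨k, h4, h5⟩ := Clifford.exists_charDegree_eq_mul (N.subgroupOf G) (mem_Irr.1 h1).2 h3
    ((cfdot_subgroupOf hNG χ θ).trans_ne h2)
  refine ⟨k, h4, ?_⟩
  have e1 := (show IsIrrCharacter G _ from (mem_Irr.1 h1).2).apply_one_eq
  have e2 := h3.apply_one_eq
  rw [h5] at e1
  refine deg_of_eq (e1.trans ?_)
  push_cast
  rw [← e2]
  exact congrArg _ (Irr.apply_one hθ)

theorem deg_eq_ndot_mul (hNG : N ≤ G) (hn : G ≤ normalizer (N : Set X)) (hθ : θ ∈ Irr N)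
    (hI : G ≤ inertia θ) (hχ : χ ∈ IrrO G N θ) : deg χ = ndot N χ θ * deg θ := by
  obtain ⟨h1, h2⟩ := mem_IrrO.1 hχ
  have := congrFun (Irr.res_eq_smul_of_le_inertia hNG hn h1 hθ h2 hI) 1
  rw [res_one_apply, Pi.smul_apply, smul_eq_mul, ← ndot_cast hNG (Irr.isChar h1) (Irr.isChar hθ),
    Irr.apply_one hθ] at this
  exact deg_of_eq (by exact_mod_cast this)

theorem ndot_add (hNG : N ≤ G) (h1 : IsChar G χ) (h2 : IsChar G ψ) (hθ : IsChar N θ) :
    ndot N (χ + ψ) θ = ndot N χ θ + ndot N ψ θ :=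
  ndot_of_eq (by rw [cfdot_add_left, ← ndot_cast hNG h1 hθ, ← ndot_cast hNG h2 hθ, Nat.cast_add])

theorem exists_not_dvd_ndot (hNG : N ≤ G) (hψ : IsChar G ψ) (hθ : IsChar N θ) {m : ℕ}
    (h : ¬ m ∣ ndot N ψ θ) : ∃ χ ∈ Irr G, ¬ m ∣ ndot N χ θ ∧ ndot N χ θ ≤ ndot N ψ θ := by
  revert h
  refine hψ.induction_on (P := fun ψ => ¬ m ∣ ndot N ψ θ →
    ∃ χ ∈ Irr G, ¬ m ∣ ndot N χ θ ∧ ndot N χ θ ≤ ndot N ψ θ) (fun h => ?_) fun χ φ h1 h2 ih h => ?_
  · exact absurd (by rw [ndot_of_eq (n := 0) (by simp)]; exact dvd_zero m) h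
  rw [ndot_add hNG (Irr.isChar h1) h2 hθ] at h ⊢
  by_cases h3 : m ∣ ndot N χ θ
  · obtain ⟨χ', h4, h5, h6⟩ := ih fun h4 => h (dvd_add h3 h4)
    exact ⟨χ', h4, h5, by omega⟩
  · exact ⟨χ, h1, h3, by omega⟩

theorem mem_IrrO_of_not_dvd {m : ℕ} (hχ : χ ∈ Irr G) (h : ¬ m ∣ ndot N χ θ) : χ ∈ IrrO G N θ :=
  mem_IrrO.2 ⟨hχ, fun e => h (by rw [ndot_of_eq (n := 0) (by simpa using e)]; exact dvd_zero m)⟩

/-- An invariant character with a multiplicity prime to `p` extends over a `p`-group. -/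
theorem extends_of_not_dvd [hp : Fact p.Prime] (hNQ : N ≤ Q) (hn : Q ≤ normalizer (N : Set X))
    (hθ : θ ∈ Irr N) (hI : Q ≤ inertia θ) {k : ℕ} (hk : N.relIndex Q = p ^ k) (hψ : IsChar Q ψ)
    (h : ¬ p ∣ ndot N ψ θ) : Extends Q N θ := by
  obtain ⟨χ, h1, h2, -⟩ := exists_not_dvd_ndot hNQ hψ (Irr.isChar hθ) h
  have h3 := mem_IrrO_of_not_dvd h1 h2
  obtain ⟨e, h4, h5⟩ := exists_deg_eq_mul hNQ hn hθ h3
  rw [deg_eq_ndot_mul hNQ hn hθ hI h3, Nat.mul_left_inj (Irr.deg_pos hθ).ne'] at h5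
  obtain ⟨j, -, h6⟩ := (Nat.dvd_prime_pow hp.out).1 (hk ▸ h4)
  refine ⟨χ, h1, res_eq_of_deg hNQ hθ h3 ?_⟩
  rw [deg_eq_ndot_mul hNQ hn hθ hI h3, h5, h6]
  rcases j with _ | j
  · simp
  · exact absurd (h5 ▸ h6 ▸ dvd_pow_self p j.succ_ne_zero) h2

/-- Extendibility can be tested in a supplement. -/
theorem Extends.of_inf (hQU : Q ≤ U) (hn : U ≤ normalizer (Q : Set X)) (hA : A ≤ U)
    (hm : ∀ u ∈ U, ∃ a ∈ A, ∃ q ∈ Q, u = a * q) (hη : η ∈ Irr Q) (hI : U ≤ inertia η)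
    (h1 : res (A ⊓ Q) η ∈ Irr (A ⊓ Q)) (h : Extends A (A ⊓ Q) (res (A ⊓ Q) η)) :
    Extends U Q η := by
  obtain ⟨φ, h2, h3⟩ := h
  have h4 : ndot Q (ind A U φ) η = 1 := ndot_of_eq (by
    rw [← cfdot_res_left, res_ind_of_mul hA hQU hm (Irr.mem_CF h2),
      cfdot_ind_left inf_le_right _ (Irr.mem_CF hη), ← cfdot_res_right, cfdot_of_res h1 h3,
      Nat.cast_one])
  obtain ⟨χ, h5, h6, h7⟩ := exists_not_dvd_ndot hQU ((Irr.isChar h2).ind hA) (Irr.isChar hη)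
    (m := 0) (by rw [h4]; simp)
  have h8 := mem_IrrO_of_not_dvd h5 h6
  refine ⟨χ, h5, res_eq_of_deg hQU hη h8 ?_⟩
  rw [deg_eq_ndot_mul hQU hn hη hI h8]
  exact (Nat.mul_le_mul_right _ (h4 ▸ h7)).trans_eq (one_mul _)

theorem Extends.res_eq (h : Extends U N θ) (hNU : N ≤ U) (hab : ⁅U, U⁆ ≤ N) (hθ : θ ∈ Irr N)
    (hχ : χ ∈ IrrO U N θ) : res N χ = θ := by
  obtain ⟨ψ, h1, h2⟩ := h
  rw [res_eq_of_abelian hNU hab h1 (mem_IrrO.1 hχ).1 hθ
    (mem_IrrO.1 (mem_IrrO_of_res hθ h1 h2)).2 (mem_IrrO.1 hχ).2, h2]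

theorem le_normalizer_of_comm (hab : ⁅U, U⁆ ≤ N) (hNU : N ≤ U) : U ≤ normalizer (N : Set X) :=
  le_normalizer_of_commutator_le hNU hab

/-- Over an abelian quotient there are at most `|U : N|` characters, with equality exactly in
the extendible case. -/
theorem card_IrrO_of_comm (hNU : N ≤ U) (hab : ⁅U, U⁆ ≤ N) (hθ : θ ∈ Irr N) (hI : U ≤ inertia θ) :
    (IrrO U N θ).card ≤ N.relIndex U ∧ ((IrrO U N θ).card = N.relIndex U ↔ Extends U N θ) := by
  have hn := le_normalizer_of_comm hab hNU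
  obtain ⟨χ, h1, h2⟩ := Irr.exists_ind_constituent hNU hθ
  have h3 := ndot_cast hNU (Irr.isChar h1) (Irr.isChar hθ)
  obtain ⟨C, h4, h5, -⟩ := ind_eq_smul_sum_of_const hNU hn hθ (e := ndot N χ θ) fun ψ h4 h5 => by
    rw [h3, ← cfdot_res_left, res_eq_of_abelian hNU hab h1 h4 hθ h2 h5, cfdot_res_left]
  rw [inf_eq_left.2 hI, show C = IrrO U N θ from Finset.ext fun ψ => (h4 ψ).trans mem_IrrO.symm]
    at h5
  have h6 : ndot N χ θ ≠ 0 := fun e => h2 (by rw [← h3, e, Nat.cast_zero])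
  have h7 := mem_IrrO.2 ⟨h1, h2⟩
  refine ⟨h5 ▸ Nat.le_mul_of_pos_left _ (by positivity), fun e => ⟨χ, h1, res_eq_of_deg hNU hθ h7 ?_⟩,
    fun e => ?_⟩
  · rw [e, mul_eq_right₀ (relIndex_ne_zero N U), pow_eq_one_iff_left two_ne_zero] at h5
    rw [deg_eq_ndot_mul hNU hn hθ hI h7, h5, one_mul]
  · rw [ndot_of_eq (n := 1) (by rw [cfdot_of_res hθ (e.res_eq hNU hab hθ h7), Nat.cast_one])] at h5
    simpa using h5

/-! ### Averages -/

/-- The average of a function over a subgroup. -/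
noncomputable def av (V : Subgroup X) (F : X → ℂ) : ℂ :=
  (Nat.card V : ℂ)⁻¹ * ∑ x ∈ fs (V : Set X), F x

theorem av_eq_cfdot (V : Subgroup X) (F : X → ℂ) : av V F = cfdot V F 1 := by
  simp [av, cfdot_def]

theorem cfdot_eq_av (V : Subgroup X) (φ ψ : X → ℂ) :
    cfdot V φ ψ = av V fun x => φ x * conj (ψ x) := rfl

theorem av_congr {F F' : X → ℂ} (h : ∀ x ∈ V, F x = F' x) : av V F = av V F' := by
  rw [av, av, sum_fs_congr h]

theorem av_pull (f : Y →* X) (V : Subgroup Y) (F : X → ℂ) :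
    av V (fun y => F (f y)) = av (V.map f) F := by
  rw [av_eq_cfdot, av_eq_cfdot, ← cfdot_pull_map]
  rfl

theorem av_const (V : Subgroup X) (c : ℂ) : av V (fun _ => c) = c := by
  rw [av, Finset.sum_const, card_fs_subgroup, nsmul_eq_mul, inv_mul_cancel_left₀ (card_ne_zero V)]

theorem av_comm (V : Subgroup X) (W : Subgroup Y) (F : X → Y → ℂ) :
    av V (fun x => av W (F x)) = av W fun y => av V fun x => F x y := by
  simp only [av, ← Finset.mul_sum]
  rw [Finset.sum_comm, mul_left_comm]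

theorem av_mul_right {g : X} (hg : g ∈ V) (F : X → ℂ) : av V (fun x => F (x * g)) = av V F := by
  rw [av, av, sum_fs_mul_right hg]

theorem av_mul_left {g : X} (hg : g ∈ V) (F : X → ℂ) : av V (fun x => F (g * x)) = av V F := by
  rw [av, av, sum_fs_mul_left hg]

theorem av_eq_of_mul (hH : H ≤ G) (hm : ∀ g ∈ G, ∃ n ∈ N, ∃ h ∈ H, g = n * h) {F : X → ℂ}
    (hF : ∀ n ∈ N, ∀ x ∈ H, F (n * x) = F x) : av G F = av H F := by
  rw [← av_const H (av G F), av_congr fun h hh => (av_mul_right (hH hh) F).symm, ← av_comm,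
    ← av_const G (av H F)]
  refine av_congr fun g hg => ?_
  obtain ⟨n, hn, h, hh, rfl⟩ := hm g hg
  rw [← av_mul_left hh F]
  exact av_congr fun x hx => by rw [mul_assoc, hF n hn _ (mul_mem hh hx)]

/-! ### Good elements -/

/-- `g` is `θ`-good in `G`. -/
def Good (G N : Subgroup X) (θ : X → ℂ) (g : X) : Prop :=
  ∀ d ∈ G, ⁅d, g⁆ ∈ N → ∃ U, N ≤ U ∧ U ≤ G ∧ g ∈ U ∧ d ∈ U ∧ ⁅U, U⁆ ≤ N ∧ Extends U N θ

open Classical in
/-- The indicator function of the commuting pairs with a good first member. -/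
noncomputable def gd (G N : Subgroup X) (θ : X → ℂ) (g d : X) : ℂ :=
  if ⁅d, g⁆ ∈ N ∧ Good G N θ g then 1 else 0

theorem commutator_closure_le' {S : Subgroup X} {s : Set X}
    (hs : closure s ≤ normalizer (S : Set X)) (h : ∀ a ∈ s, ∀ b ∈ s, ⁅a, b⁆ ∈ S) :
    ⁅closure s, closure s⁆ ≤ S := by
  refine commutator_le.2 fun x hx y hy => ?_
  induction hx, hy using closure_induction₂ with
  | mem a b ha hb => exact h a ha b hb
  | one_left => simp
  | one_right => simp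
  | mul_left a b c ha _ _ h1 h2 =>
    rw [show ⁅a * b, c⁆ = a * ⁅b, c⁆ * a⁻¹ * ⁅a, c⁆ by simp only [commutatorElement_def]; group]
    exact mul_mem (((hs ha) _).1 h2) h1
  | mul_right a b c ha _ _ h1 h2 =>
    rw [show ⁅c, a * b⁆ = ⁅c, a⁆ * (a * ⁅c, b⁆ * a⁻¹) by simp only [commutatorElement_def]; group]
    exact mul_mem h1 (((hs ha) _).1 h2)
  | inv_left a b ha _ h1 =>
    rw [show ⁅a⁻¹, b⁆ = a⁻¹ * ⁅a, b⁆⁻¹ * a⁻¹⁻¹ by simp only [commutatorElement_def]; group]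
    exact ((hs (inv_mem ha)) _).1 (inv_mem h1)
  | inv_right a b _ hb h1 =>
    rw [show ⁅a, b⁻¹⁆ = b⁻¹ * ⁅a, b⁆⁻¹ * b⁻¹⁻¹ by simp only [commutatorElement_def]; group]
    exact ((hs (inv_mem hb)) _).1 (inv_mem h1)

theorem good_iff_of_central (hZG : Z ≤ G) (hc : ∀ z ∈ Z, ∀ u ∈ G, u * z = z * u) (hμ : μ ∈ Irr Z)
    {g : X} (hg : g ∈ G) : Good G Z μ g ↔ ∀ d ∈ G, ⁅d, g⁆ ∈ Z → μ ⁅d, g⁆ = 1 := by
  have h0 : μ 1 = 1 := Irr.apply_one_of_comm hμ fun a ha b hb => hc b hb a (hZG ha)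
  refine forall₃_congr fun d hd h => ⟨fun ⟨U, _, _, h3, h4, _, χ, h6, h7⟩ => ?_, fun h1 => ?_⟩
  · have h8 : χ 1 = 1 := by rw [← h0, ← h7, res_one_apply]
    rw [← h7, res_of_mem _ h, cfker_apply ((Irr.isChar h6).commutator_le_cfker h8
      (commutator_mem_commutator h4 h3)), h8]
  have h2 : Z ≤ closure (Z ∪ {g, d}) := fun z hz => subset_closure (Or.inl hz)
  have h3 : closure (Z ∪ {g, d}) ≤ G := (closure_le _).2 (by
    rintro x (hx | rfl | rfl)
    exacts [hZG hx, hg, hd])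
  obtain ⟨χ, h4, h5⟩ := Irr.exists_ind_constituent h2 hμ
  have h6 := mem_IrrO.2 ⟨h4, h5⟩
  have h7 : ⁅d, g⁆ ∈ Z ⊓ cfker χ := ⟨h, fun y => by
    rw [apply_mul_of_central h2 (fun z hz u hu => hc z hz u (h3 hu)) hμ h6 h, h1, one_mul]⟩
  have h8 : ⁅closure (Z ∪ {g, d}), closure (Z ∪ {g, d})⁆ ≤ Z ⊓ cfker χ := by
    refine commutator_closure_le' (le_normalizer_inf (fun u hu => mem_normalizer_fintype
      fun z hz => by rwa [hc z hz u (h3 hu), mul_inv_cancel_right])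
      (CF.le_normalizer_cfker (Irr.mem_CF h4))) fun a ha b hb => ?_
    rcases ha with ha | ha
    · rw [commutatorElement_eq_one_iff_mul_comm.2 (hc a ha b (h3 (subset_closure hb))).symm]
      exact one_mem _
    rcases hb with hb | hb
    · rw [commutatorElement_eq_one_iff_mul_comm.2 (hc b hb a (h3 (subset_closure (Or.inr ha))))]
      exact one_mem _
    rcases ha with rfl | rfl <;> rcases hb with rfl | rfl
    · simp
    · rw [← commutatorElement_inv]; exact inv_mem h7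
    · exact h7
    · simp
  refine ⟨_, h2, h3, subset_closure (by simp), subset_closure (by simp), h8.trans inf_le_left,
    χ, h4, res_eq_of_deg h2 hμ h6 ?_⟩
  rw [Irr.deg_eq_one_of_commutator_le h4 (h8.trans inf_le_right)]
  exact Irr.deg_pos hμ

theorem card_IrrO_of_central (hZG : Z ≤ G) (hc : ∀ z ∈ Z, ∀ u ∈ G, u * z = z * u)
    (hμ : μ ∈ Irr Z) :
    ((IrrO G Z μ).card : ℂ) = Z.relIndex G * av G fun g => av G (gd G Z μ g) := by
  classical
  have h1 : ∀ g ∈ G, av G (gd G Z μ g) = av G fun d => μ ⁅d, g⁆ := fun g hg => by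
    by_cases h : Good G Z μ g
    · refine av_congr fun d hd => ?_
      by_cases h' : ⁅d, g⁆ ∈ Z
      · rw [gd, if_pos ⟨h', h⟩, (good_iff_of_central hZG hc hμ hg).1 h d hd h']
      · rw [gd, if_neg fun h => h' h.1, (Irr.mem_CF hμ).1 _ h']
    rw [av_congr (F := gd G Z μ g) (F' := fun _ => 0) fun d _ => if_neg fun h' => h h'.2, av_const]
    rw [good_iff_of_central hZG hc hμ hg] at h
    push Not at h
    obtain ⟨c, h2, h3, h4⟩ := h
    have h5 := av_mul_right h2 fun d => μ ⁅d, g⁆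
    rw [av_congr (F' := fun d => μ ⁅c, g⁆ * μ ⁅d, g⁆) fun d hd => by
      rw [show ⁅d * c, g⁆ = d * ⁅c, g⁆ * d⁻¹ * ⁅d, g⁆ by simp only [commutatorElement_def]; group,
        hc _ h3 d hd, mul_inv_cancel_right, apply_mul_of_central le_rfl
          (fun z hz u hu => hc z hz u (hZG hu)) hμ
          (mem_IrrO_of_res hμ hμ (CF.res_eq (Irr.mem_CF hμ))) h3]] at h5
    rw [av, ← Finset.mul_sum, mul_left_comm, ← av] at h5
    exact ((mul_left_eq_self₀.1 h5).resolve_left h4).symm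
  have h2 : ∀ g ∈ G, (Z.relIndex G : ℂ) * av G (fun d => μ ⁅d, g⁆) =
      ∑ χ ∈ IrrO G Z μ, χ g * conj (χ g) := fun g hg => by
    have h3 := CF.apply_eq_sum_Irr (ind_mem_CF G G fun x => μ (x * g⁻¹)) g
    rw [ind_of_mem _ hg, sum_fs_congr fun d hd =>
      res_of_mem _ (mul_mem (mul_mem hd hg) (inv_mem hd))] at h3
    rw [av]
    simp only [commutatorElement_def]
    rw [h3, Finset.mul_sum, IrrO, Finset.sum_filter]
    refine Finset.sum_congr rfl fun χ hχ => ?_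
    obtain ⟨ν, h4, h5⟩ := Irr.exists_res_constituent hZG hχ
    have h6 : ∀ z ∈ Z, χ (z * g) = ν z * χ g := fun z hz =>
      apply_mul_of_central hZG hc h4 (mem_IrrO.2 ⟨hχ, h5⟩) hz g
    have h7 : cfdot Z χ μ = χ 1 * cfdot Z ν μ := by
      rw [← cfdot_smul_left]
      refine cfdot_congr (fun z hz => ?_) fun _ _ => rfl
      rw [Pi.smul_apply, smul_eq_mul, mul_comm,
        ← apply_mul_of_central hZG hc h4 (mem_IrrO.2 ⟨hχ, h5⟩) hz, mul_one]
    rw [cfdot_ind_left le_rfl _ (Irr.mem_CF hχ), cfdot_def, ← sum_fs_mul_right hg,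
      sum_fs_subset hZG fun x _ hx => by
        rw [mul_inv_cancel_right, (Irr.mem_CF hμ).1 _ hx, zero_mul],
      sum_fs_congr (g := fun z => μ z * conj (ν z) * conj (χ g)) fun z hz => by
        rw [mul_inv_cancel_right, h6 z hz, map_mul, mul_assoc],
      ← Finset.sum_mul, ← card_mul_cfdot, h7, Irr.cfdot_ite hμ h4, Irr.cfdot_ite h4 hμ,
      ← cast_card_mul_relIndex hZG]
    have := card_ne_zero Z
    have := relIndex_cast_ne_zero Z G
    by_cases e : μ = ν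
    · rw [if_pos e, if_pos e.symm, if_pos (by simpa using Irr.apply_one_ne_zero hχ)]
      field_simp
    · rw [if_neg e, if_neg (Ne.symm e), if_neg (by simp)]
      simp
  rw [av_congr h1, av, mul_left_comm, Finset.mul_sum, sum_fs_congr h2, Finset.sum_comm,
    Finset.mul_sum, Finset.card_eq_sum_ones, Nat.cast_sum]
  exact Finset.sum_congr rfl fun χ hχ => by
    rw [← cfdot_def, Irr.cfdot_self (mem_IrrO.1 hχ).1, Nat.cast_one]

section Triple

variable {W : Subgroup X} {π : Γ →* X} {q : Γ →* Y} {ν : Y → ℂ} {Φ : (Y → ℂ) → X → ℂ}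

theorem Triple.exists_up_eq (h : Triple W G N θ π q ν Φ) {V : Subgroup Y} (hV : up π q N ≤ V) :
    ∃ U, N ≤ U ∧ U ≤ W ∧ up π q U = V := by
  refine ⟨(V.comap q).map π, fun n hn => ?_, h.range ▸ map_le_range _ _, ?_⟩
  · obtain ⟨g, rfl⟩ := h.exists_lift (h.le' (h.le hn))
    exact ⟨g, hV ((h.mem_up le_rfl).2 hn), rfl⟩
  · rw [up, comap_map_eq_self (f := π) (H := V.comap q) fun g hg => hV ((h.mem_up le_rfl).2 (by
      rw [show π g = 1 from hg]; exact one_mem _)), map_comap_eq_self_of_surjective h.surj]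

theorem Triple.commutator_le_iff (h : Triple W G N θ π q ν Φ) (hU : N ≤ U) (hW : U ≤ W) :
    ⁅up π q U, up π q U⁆ ≤ up π q N ↔ ⁅U, U⁆ ≤ N := by
  simp only [commutator_le]
  refine ⟨fun h1 a ha b hb => ?_, fun h1 a ha b hb => ?_⟩
  · obtain ⟨a, rfl⟩ := h.exists_lift (hW ha)
    obtain ⟨b, rfl⟩ := h.exists_lift (hW hb)
    rw [← map_commutatorElement, ← h.mem_up le_rfl, map_commutatorElement]
    exact h1 _ ((h.mem_up hU).2 ha) _ ((h.mem_up hU).2 hb)
  · obtain ⟨a, rfl⟩ := h.surj a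
    obtain ⟨b, rfl⟩ := h.surj b
    rw [← map_commutatorElement, h.mem_up le_rfl, map_commutatorElement]
    exact h1 _ ((h.mem_up hU).1 ha) _ ((h.mem_up hU).1 hb)

theorem Triple.extends_iff (h : Triple W G N θ π q ν Φ) (hθ : θ ∈ Irr N) (hU : N ≤ U)
    (hG : U ≤ G) : Extends (up π q U) (up π q N) ν ↔ Extends U N θ := by
  refine ⟨fun ⟨β, h1, h2⟩ => ?_, fun ⟨χ, h1, h2⟩ => ?_⟩
  · have h3 := mem_IrrO_of_res h.irr h1 h2
    have h4 := (h.bij U hU hG).mapsTo h3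
    refine ⟨_, (mem_IrrO.1 h4).1, res_eq_of_deg hU hθ h4 ?_⟩
    rw [h.deg_eq hθ hU h3, ← deg_res (up π q N) β, h2, deg_of_eq (χ := ν) (n := 1) (by rw [h.one]; simp),
      mul_one]
  · obtain ⟨β, h3, rfl⟩ := (h.bij U hU hG).surjOn (mem_IrrO_of_res hθ h1 h2)
    refine ⟨β, (mem_IrrO.1 h3).1, res_eq_of_deg (up_mono π q hU) h.irr h3 ?_⟩
    have h4 := h.deg_eq hθ hU h3
    rw [← deg_res N, h2, left_eq_mul₀ (Irr.deg_pos hθ).ne'] at h4
    exact h4 ▸ Irr.deg_pos h.irr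

theorem Triple.good_iff (h : Triple G G N θ π q ν Φ) (hθ : θ ∈ Irr N) (a : Γ) :
    Good (up π q G) (up π q N) ν (q a) ↔ Good G N θ (π a) := by
  refine ⟨fun h1 d hd h2 => ?_, fun h1 d _ h2 => ?_⟩
  · obtain ⟨d, rfl⟩ := h.exists_lift hd
    rw [← map_commutatorElement, ← h.mem_up le_rfl, map_commutatorElement] at h2
    obtain ⟨V, h3, -, h4, h5, h6, h7⟩ := h1 _ ((h.mem_up h.le).2 hd) h2
    obtain ⟨U, h8, h9, rfl⟩ := h.exists_up_eq h3
    exact ⟨U, h8, h9, (h.mem_up h8).1 h4, (h.mem_up h8).1 h5, (h.commutator_le_iff h8 h9).1 h6,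
      (h.extends_iff hθ h8 h9).1 h7⟩
  · obtain ⟨d, rfl⟩ := h.surj d
    rw [← map_commutatorElement, h.mem_up le_rfl, map_commutatorElement] at h2
    obtain ⟨U, h3, h4, h5, h6, h7, h8⟩ := h1 _ (h.mem d) h2
    exact ⟨_, up_mono π q h3, up_mono π q h4, (h.mem_up h3).2 h5, (h.mem_up h3).2 h6,
      (h.commutator_le_iff h3 h4).2 h7, (h.extends_iff hθ h3 h4).2 h8⟩

end Triple

/-- Gallagher's count. -/
theorem card_IrrO_eq {X : Type u} [Group X] [Finite X] {G N : Subgroup X} {θ : X → ℂ}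
    (hNG : N ≤ G) (hn : G ≤ normalizer (N : Set X)) (hθ : θ ∈ Irr N) (hI : G ≤ inertia θ) :
    ((IrrO G N θ).card : ℂ) = N.relIndex G * av G fun g => av G (gd G N θ g) := by
  obtain ⟨Γ, Y, _, _, _, _, π, q, ν, Φ, h, -⟩ := exists_triple hNG le_rfl le_normalizer hn hθ hI
  rw [← Finset.card_nbij Φ (h.bij G hNG le_rfl).mapsTo (h.bij G hNG le_rfl).injOn
    (h.bij G hNG le_rfl).surjOn, card_IrrO_of_central (up_mono π q hNG)
      (fun z hz u _ => mem_center_iff.1 (h.cent hz) u) h.irr, h.relIndex_up le_rfl le_rfl]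
  congr 1
  have e1 : (⊤ : Subgroup Γ).map π = G := by rw [← MonoidHom.range_eq_map, h.range]
  have e2 : (⊤ : Subgroup Γ).map q = up π q G := by
    rw [h.up_top, map_top_of_surjective _ h.surj]
  have e3 : ∀ F : X → ℂ, av G F = av ⊤ fun a => F (π a) := fun F => by rw [av_pull, e1]
  have e4 : ∀ F : Y → ℂ, av (up π q G) F = av ⊤ fun a => F (q a) := fun F => by rw [av_pull, e2]
  rw [e3, e4]
  refine av_congr fun a _ => ?_
  rw [e3, e4]
  refine av_congr fun b _ => ?_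
  rw [gd, gd, h.good_iff hθ, ← map_commutatorElement, h.mem_up le_rfl, map_commutatorElement]

theorem gd_mul (hn : G ≤ normalizer (N : Set X)) {g d n m : X} (hg : g ∈ G) (hd : d ∈ G)
    (h1 : n ∈ N) (h2 : m ∈ N) : gd G N θ (n * g) (m * d) = gd G N θ g d := by
  have key : ∀ d ∈ G, ∀ m ∈ N, ⁅m * d, n * g⁆ ∈ N ↔ ⁅d, g⁆ ∈ N := fun d hd m h2 => by
    rw [show ⁅m * d, n * g⁆ = m * (d * n * d⁻¹) * ⁅d, g⁆ * (g * m⁻¹ * g⁻¹ * n⁻¹) by
      simp only [commutatorElement_def]; group,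
      mul_mem_cancel_right (mul_mem ((hn hg _).1 (inv_mem h2)) (inv_mem h1)),
      mul_mem_cancel_left (mul_mem h2 ((hn hd _).1 h1))]
  have : Good G N θ (n * g) ↔ Good G N θ g := forall₂_congr fun c hc => by
    rw [← key c hc 1 (one_mem _), one_mul]
    exact imp_congr_right fun _ => exists_congr fun U => and_congr_right fun h =>
      and_congr_right fun _ => and_congr_left fun _ => mul_mem_cancel_left (h h1)
  rw [gd, gd, key d hd m h2, this]

/-- Two character triples with the same quotient and the same extendibility to the abelian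
subgroups of the quotient have the same number of characters. -/
theorem card_IrrO_eq_of_extends {X : Type u} [Group X] [Finite X] {G N H : Subgroup X}
    {θ φ : X → ℂ} (hNG : N ≤ G) (hn : G ≤ normalizer (N : Set X)) (hθ : θ ∈ Irr N)
    (hI : G ≤ inertia θ) (hH : H ≤ G) (hm : N ⊔ H = G) (hφ : φ ∈ Irr (N ⊓ H))
    (hI' : H ≤ inertia φ)
    (h : ∀ U, N ≤ U → U ≤ G → ⁅U, U⁆ ≤ N → (Extends U N θ ↔ Extends (U ⊓ H) (N ⊓ H) φ)) :
    (IrrO G N θ).card = (IrrO H (N ⊓ H) φ).card := by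
  have hm' : ∀ g ∈ G, ∃ n ∈ N, ∃ h ∈ H, g = n * h := fun g hg =>
    Transfer.exists_mul_of_mem_sup (hH.trans hn) (hm ▸ hg)
  have h1 : ∀ g ∈ H, Good G N θ g ↔ Good H (N ⊓ H) φ g := fun g hg => by
    refine ⟨fun h1 d hd h2 => ?_, fun h1 d hd h2 => ?_⟩
    · obtain ⟨U, h3, h4, h5, h6, h7, h8⟩ := h1 d (hH hd) h2.1
      exact ⟨U ⊓ H, inf_le_inf_right _ h3, inf_le_right, ⟨h5, hg⟩, ⟨h6, hd⟩, le_inf
        ((commutator_mono inf_le_left inf_le_left).trans h7)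
        ((commutator_le_of_le_normalizer le_normalizer).trans inf_le_right), (h U h3 h4 h7).1 h8⟩
    · obtain ⟨n, h3, d, h4, rfl⟩ := hm' d hd
      rw [show ⁅n * d, g⁆ = n * ⁅d, g⁆ * (g * n⁻¹ * g⁻¹) by
        simp only [commutatorElement_def]; group,
        mul_mem_cancel_right ((hn (hH hg) _).1 (inv_mem h3)), mul_mem_cancel_left h3] at h2
      obtain ⟨V, h5, h6, h7, h8, h9, h10⟩ := h1 d h4
        ⟨h2, commutator_le_of_le_normalizer le_normalizer (commutator_mem_commutator h4 hg)⟩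
      have h11 : ⁅N ⊔ V, N ⊔ V⁆ ≤ N := (commutator_sup_le_sup_commutator
        (h6.trans (hH.trans hn))).trans (sup_le le_rfl (h9.trans inf_le_left))
      have h12 : N ⊔ V ≤ G := sup_le hNG (h6.trans hH)
      refine ⟨N ⊔ V, le_sup_left, h12, mem_sup_right h7, mul_mem_sup h3 h8, h11,
        (h _ le_sup_left h12 h11).2 ?_⟩
      rwa [show (N ⊔ V) ⊓ H = V from le_antisymm (fun x hx => by
        obtain ⟨n, h13, v, h14, rfl⟩ := Transfer.exists_mul_of_mem_sup (h6.trans (hH.trans hn)) hx.1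
        exact mul_mem (h5 ⟨h13, (mul_mem_cancel_right (h6 h14)).1 hx.2⟩) h14)
        (le_inf le_sup_right h6)]
  have e1 := card_IrrO_eq hNG hn hθ hI
  have e2 := card_IrrO_eq inf_le_right (le_normalizer_inf (hH.trans hn) le_normalizer) hφ hI'
  rw [inf_relIndex_right, ← relIndex_sup_of_le_normalizer (hH.trans hn), hm] at e2
  rw [av_eq_of_mul hH hm' fun n h2 g hg => av_congr fun d hd => by
    simpa using gd_mul (θ := θ) hn (hH hg) hd h2 (one_mem _), av_congr fun g hg => by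
      rw [av_eq_of_mul hH hm' fun n h2 d hd => by
        simpa using gd_mul (θ := θ) hn (hH hg) (hH hd) (one_mem _) h2,
        av_congr (F' := gd H (N ⊓ H) φ g) fun d hd => by
          rw [gd, gd, h1 g hg, mem_inf,
            and_iff_left (commutator_le_of_le_normalizer le_normalizer
              (commutator_mem_commutator hd hg))]], ← e2] at e1
  exact_mod_cast e1

end Cfsg.Lib.Rel
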