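import Cfsg.Agent.Lib.Rel.PDeg
import Cfsg.Agent.Lib.Core.PSolvable

/-!
# The relative McKay equality for `p`-solvable groups
-/

set_option autoImplicit false
set_option linter.unusedSectionVars false

namespace Cfsg.Lib.Rel

open Cfsg.Lib.PF Cfsg.Lib.Char Cfsg.Lib.Coprime Cfsg.Lib.Transfer Subgroup
open scoped ComplexConjugate commutatorElement

universe u

variable {X : Type u} [Group X] [Finite X]
variable {p : ℕ} [hp : Fact p.Prime] {G K C U V T N L Q D S A H W : Subgroup X}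
  {θ θ' χ ψ φ ξ η ν : X → ℂ}

omit hp in
theorem not_dvd_relIndex_of_le (h1 : S ≤ U) (h2 : U ≤ G) (h : ¬ p ∣ S.relIndex G) :
    ¬ p ∣ S.relIndex U := fun e => h (e.trans (Dvd.intro _ (relIndex_mul_relIndex S U G h1 h2)))

omit hp in
theorem le_normalizer_of_central (hc : ∀ z ∈ L, ∀ u ∈ G, u * z = z * u) :
    G ≤ normalizer (L : Set X) := fun u hu => mem_normalizer_fintype fun z hz => by
  rwa [hc z hz u hu, mul_inv_cancel_right]

theorem exists_frattini (hS : IsPGroup p S) (hSK : S ≤ normalizer (K : Set X)) (hKG : K ⊔ S ≤ G)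
    (hi : ¬ p ∣ S.relIndex G) (hQ : G ≤ normalizer ((K ⊔ S : Subgroup X) : Set X)) {g : X}
    (hg : g ∈ G) : ∃ k ∈ K, ∃ n ∈ G ⊓ normalizer (S : Set X), g = k * n := by
  obtain ⟨h, h1, h2⟩ := exists_conj_le_of_not_dvd_relIndex hS
    (not_dvd_relIndex_of_le le_sup_right hKG hi) (isPGroup_conj hS g)
    (conj_le_iff.2 fun s hs => (hQ hg s).1 (mem_sup_right hs))
  rw [conj_conj] at h2
  obtain ⟨k, h3, s, h4, h5⟩ := exists_mul_of_mem_sup hSK (inv_mem h1)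
  refine ⟨k, h3, s * (h * g), ⟨G.mul_mem (hKG (mem_sup_right h4)) (G.mul_mem (hKG h1) hg),
    mul_mem (le_normalizer h4) (mem_normalizer_of_conj_le h2)⟩, ?_⟩
  rw [← mul_assoc, ← h5, inv_mul_cancel_left]

theorem exists_hall_of_central (hLK : L ≤ K) (hc : ∀ z ∈ L, ∀ u ∈ K, u * z = z * u)
    (hL : ¬ p ∣ L.relIndex K) : ∃ K₁ ≤ K, ¬ p ∣ Nat.card K₁ ∧ K ≤ normalizer (K₁ : Set X) ∧
      (∃ k, K₁.relIndex K = p ^ k) ∧ ∀ k ∈ K, ∃ z ∈ L, ∃ h ∈ K₁, k = z * h := by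
  obtain ⟨T, -, h1, h2, h3⟩ := exists_sylowIn_ge (IsPGroup.of_bot (p := p)) (bot_le (a := L))
  have h4 : ¬ p ∣ T.relIndex K := by
    rw [← relIndex_mul_relIndex T L K h1 hLK, hp.out.dvd_mul]
    exact fun e => e.elim h3 hL
  have h5 : K ≤ normalizer (T : Set X) := le_normalizer_of_central fun z hz => hc z (h1 hz)
  obtain ⟨B, h6, -, h7, h8⟩ := exists_complement (h1.trans hLK) h5 (coprime_card_of_isPGroup h2 h4)
  have h9 : T ≤ normalizer (B : Set X) := fun t ht => mem_normalizer_fintype fun b hb => by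
    rwa [← hc t (h1 ht) b (h6 hb), mul_inv_cancel_right]
  refine ⟨B, h6, h8 ▸ h4, h7 ▸ sup_le h9 le_normalizer, ?_, fun k hk => ?_⟩
  · rw [← h7, sup_comm]
    exact exists_relIndex_sup_eq_pow h2 h9
  · obtain ⟨t, h10, b, h11, rfl⟩ := exists_mul_of_mem_sup (h6.trans h5) (h7 ▸ hk)
    exact ⟨t, h1 h10, b, h11, rfl⟩

theorem card_IrrP_eq_of_inv (hLK : L ≤ K) (hKG : K ≤ G) (hc : ∀ z ∈ L, ∀ u ∈ G, u * z = z * u)
    (hK : G ≤ normalizer (K : Set X)) (hS : IsPGroup p S) (hSG : S ≤ G)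
    (hi : ¬ p ∣ S.relIndex G) (hL : ¬ p ∣ L.relIndex K)
    (hQ : G ≤ normalizer ((K ⊔ S : Subgroup X) : Set X)) (hN : N = G ⊓ normalizer (S : Set X))
    (hC : C = K ⊓ N) (hν : ν ∈ Irr L) (hθ : θ ∈ IrrO K L ν) (hI : G ≤ inertia θ)
    (hξ : ξ ∈ IrrO C L ν) (hI' : N ≤ inertia ξ) (h : (ndot C θ ξ : ZMod p) ≠ 0) :
    (IrrP p G K θ).card = (IrrP p N C ξ).card := by
  have hQG : K ⊔ S ≤ G := sup_le hKG hSG
  have hNG : N ≤ G := hN ▸ inf_le_left
  have hNS : N ≤ normalizer (S : Set X) := hN ▸ inf_le_right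
  have hSN : S ≤ N := hN ▸ le_inf hSG le_normalizer
  have hLN : L ≤ N := hN ▸ le_inf (hLK.trans hKG) fun z hz => mem_normalizer_fintype
    fun s hs => by rwa [← hc z hz s (hSG hs), mul_inv_cancel_right]
  have hCK : C ≤ K := hC ▸ inf_le_left
  have hCN : C ≤ N := hC ▸ inf_le_right
  have hLC : L ≤ C := hC ▸ le_inf hLK hLN
  have hNC : N ≤ normalizer (C : Set X) := hC ▸ le_normalizer_inf (hNG.trans hK) le_normalizer
  have hCS : C ⊔ S ≤ N := sup_le hCN hSN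
  have hF : ∀ g ∈ G, ∃ k ∈ K, ∃ n ∈ N, g = k * n := fun g hg =>
    hN ▸ exists_frattini hS (hSG.trans hK) hQG hi hQ hg
  have hθ' := (mem_IrrO.1 hθ).1
  have hξ' := (mem_IrrO.1 hξ).1
  obtain ⟨d1, E1⟩ := extends_iff_of_central hLK (fun z hz u hu => hc z hz u (hQG hu)) hS
    (hSG.trans hK) hν hθ (hSG.trans hI) hL
  obtain ⟨d2, E2⟩ := extends_iff_of_central hLC (fun z hz u hu => hc z hz u (hNG (hCS hu))) hS
    (hSN.trans hNC) hν hξ (hSN.trans hI') (not_dvd_relIndex_of_le hLC hCK hL)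
  obtain ⟨k, hk⟩ := exists_relIndex_sup_eq_pow hS (hSG.trans hK)
  obtain ⟨j, hj⟩ := exists_relIndex_sup_eq_pow hS (hSN.trans hNC)
  have hQ' := le_normalizer_sup hNC hNS
  by_cases hP : Extends (L ⊔ S) L ν
  swap
  · rw [Finset.eq_empty_of_forall_notMem (s := IrrP p G K θ) fun χ hχ => hP (E1.1 (by
      obtain ⟨η, h1, h2, -⟩ := exists_ext_under le_sup_left hQG hK hQ hk hθ' hχ
      exact ⟨η, h1, h2⟩)), Finset.eq_empty_of_forall_notMem (s := IrrP p N C ξ) fun χ hχ =>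
      hP (E2.1 (by
        obtain ⟨η, h1, h2, -⟩ := exists_ext_under le_sup_left hCS hNC hQ' hj hξ' hχ
        exact ⟨η, h1, h2⟩))]
  have hSS : ⁅S, S⁆ ≤ S := commutator_le_of_le_normalizer le_normalizer
  have hD1 : K ⊔ ⁅S, S⁆ ≤ K ⊔ S := sup_le_sup_left hSS K
  have hD2 : G ≤ normalizer ((K ⊔ ⁅S, S⁆ : Subgroup X) : Set X) := fun g hg => by
    obtain ⟨k, h1, n, h2, rfl⟩ := hF g hg
    exact mul_mem (le_normalizer (mem_sup_left h1))
      (le_normalizer_sup (hNG.trans hK) (le_normalizer_commutator hNS hNS) h2)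
  have hD3 : (K ⊔ ⁅S, S⁆) ⊓ N ≤ C ⊔ ⁅S, S⁆ := fun x hx => by
    obtain ⟨k, h1, s, h2, rfl⟩ := exists_mul_of_mem_sup (hSS.trans (hSG.trans hK)) hx.1
    exact mul_mem_sup (hC ▸ ⟨h1, (N.mul_mem_cancel_right (hSN (hSS h2))).1 hx.2⟩) h2
  have hD4 : C ≤ (K ⊔ ⁅S, S⁆) ⊓ N := le_inf (hCK.trans le_sup_left) hCN
  have hD5 := hD3.trans (sup_le_sup_left hSS C)
  have hD6 := le_normalizer_inf (hNG.trans hD2) (le_normalizer (H := N))
  obtain ⟨η, h1, h2, h3, h4⟩ := exists_IrrP_eq le_sup_left hD1 hQG hK hQ hD2 hk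
    (fun e => hi (e.trans (relIndex_dvd_of_le_left G le_sup_right)))
    (commutator_sup_le_sup_commutator (hSG.trans hK))
    (sup_le_sup_left (commutator_mono le_sup_right le_sup_right) K) hθ' hI d1 (E1.2 hP)
  obtain ⟨ζ, h5, h6, h7, h8⟩ := exists_IrrP_eq hD4 hD5 hCS hNC hQ' hD6 hj
    (fun e => not_dvd_relIndex_of_le hSN hNG hi (e.trans (relIndex_dvd_of_le_left N le_sup_right)))
    ((commutator_sup_le_sup_commutator (hSN.trans hNC)).trans
      (sup_le hD4 (le_inf le_sup_right (hSS.trans hSN))))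
    (hD3.trans (sup_le_sup_left (commutator_mono le_sup_right le_sup_right) C)) hξ' hI' d2 (E2.2 hP)
  rw [h4, h8]
  refine card_IrrO_eq_of_extends (hD1.trans hQG) hD2
    (res_mem_Irr_of_res le_sup_left hD1 (Irr.isChar h1) (h2 ▸ hθ'))
    (fun g hg => by rw [mem_inertia, cfConj_res (hD2 hg), h3 hg]) hNG
    (le_antisymm (sup_le (hD1.trans hQG) hNG) fun g hg => by
      obtain ⟨k, h1, n, h2, rfl⟩ := hF g hg
      exact mul_mem_sup (mem_sup_left h1) h2)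
    (res_mem_Irr_of_res hD4 hD5 (Irr.isChar h5) (h6 ▸ hξ'))
    (fun g hg => by rw [mem_inertia, cfConj_res (hD6 hg), h7 hg]) fun U hU hUG hab => ?_
  obtain ⟨K₁, k1, k2, k3, ⟨i, k4⟩, k5⟩ := exists_hall_of_central hLK
    (fun z hz u hu => hc z hz u (hKG hu)) hL
  have cop : ∀ {B : Subgroup X} (m : ℕ), ¬ p ∣ Nat.card B → (Nat.card B).Coprime (p ^ m) :=
    fun m h => ((Nat.Prime.coprime_iff_not_dvd hp.out).2 h).symm.pow_right m
  have k6 : G ≤ normalizer (K₁ : Set X) := fun g hg => mem_normalizer_of_conj_le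
    (le_of_coprime_relIndex (conj_le_iff.2 fun x hx => (hK hg x).1 (k1 hx)) k1 k3
      (k4 ▸ cop i (by rwa [card_conj])))
  have k7 : ∀ B ≤ K ⊔ S, ¬ p ∣ Nat.card B → B ≤ K₁ := fun B h1 h2 =>
    le_of_coprime_relIndex h1 (k1.trans le_sup_left) (hQG.trans k6) (by
      rw [← relIndex_mul_relIndex K₁ K _ k1 le_sup_left, k4, hk, ← pow_add]; exact cop _ h2)
  have k8 : K₁ ⊓ N = K₁ ⊓ centralizer (S : Set X) := le_antisymm (fun x hx => ⟨hx.1, fun s hs =>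
    (commutatorElement_eq_one_iff_mul_comm.1 (Subgroup.disjoint_def.1 (disjoint_of_coprime_natCard
      (coprime_card_of_isPGroup hS k2)) (commutator_le_of_le_normalizer hNS
        (commutator_mem_commutator hs hx.2)) (le_normalizer_iff_commutator_le_right.1
        (hSG.trans k6) (commutator_mem_commutator hs hx.1))))⟩)
    fun x hx => ⟨hx.1, hN ▸ ⟨hKG (k1 hx.1), centralizer_le_normalizer _ hx.2⟩⟩
  have k9 : U ⊓ N ≤ normalizer ((U ⊓ N ⊓ S : Subgroup X) : Set X) :=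
    le_normalizer_inf le_normalizer (inf_le_right.trans hNS)
  have k10 : ¬ p ∣ (U ⊓ N ⊓ S).relIndex (U ⊓ N) := fun e => not_dvd_relIndex_of_le hSN hNG hi
    ((inf_relIndex_left _ S ▸ e).trans (relIndex_dvd_of_le_normalizer inf_le_right hSN hNS))
  obtain ⟨A, a1, -, a2, a3⟩ := exists_complement inf_le_left k9
    (coprime_card_of_isPGroup (hS.to_le inf_le_right) k10)
  have a4 : N ≤ normalizer ((K₁ ⊓ N : Subgroup X) : Set X) :=
    le_normalizer_inf (hNG.trans k6) le_normalizer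
  have hKU : K ≤ U := le_sup_left.trans hU
  have a5 : K₁ ⊓ N ⊔ A ≤ U ⊓ N := sup_le (inf_le_inf_right N (k1.trans hKU)) a1
  have a6 := not_dvd_card_sup (a1.trans (inf_le_right.trans a4))
    (fun e => k2 (e.trans (card_dvd_of_le inf_le_left))) (a3 ▸ k10)
  have a7 : (K₁ ⊓ N ⊔ A) ⊓ (K ⊔ S) ≤ K₁ ⊓ N := le_inf (k7 _ inf_le_right fun e => a6
    (e.trans (card_dvd_of_le inf_le_left))) (inf_le_left.trans (a5.trans inf_le_right))
  have a8 : ∀ u ∈ U ⊓ N, ∃ a ∈ K₁ ⊓ N ⊔ A, ∃ s ∈ S, u = a * s := fun u hu => by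
    obtain ⟨a, h1, s, h2, rfl⟩ := exists_mul_of_mem_sup' (a1.trans k9) (a2 ▸ hu)
    exact ⟨a, mem_sup_right h1, s, h2.2, rfl⟩
  have a9 := (a5.trans inf_le_right).trans (hNG.trans k6)
  have hν1 : ν 1 = 1 := Irr.apply_one_of_comm hν fun a ha b hb => hc b hb a (hKG (hLK ha))
  have e1 := fun z hz => apply_mul_of_central hLK (fun z hz u hu => hc z hz u (hKG hu)) hν hθ
    (z := z) hz
  have e2 := fun z hz => apply_mul_of_central hLC (fun z hz u hu => hc z hz u (hKG (hCK hu))) hν hξ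
    (z := z) hz
  have e3 : ∀ c ∈ C, ∃ z ∈ L, ∃ h ∈ K₁ ⊓ N, c = z * h := fun c hc => by
    obtain ⟨z, h1, h, h2, rfl⟩ := k5 c (hCK hc)
    exact ⟨z, h1, h, ⟨h2, (N.mul_mem_cancel_left (hLN h1)).1 (hCN hc)⟩, rfl⟩
  have e4 : K₁ ⊓ N ≤ C := hC ▸ inf_le_inf_right N k1
  have e5 : res K₁ θ ∈ Irr K₁ := ((Irr.isChar hθ').res k1).mem_Irr_of_cfdot (by
    rw [cfdot_res_left, cfdot_res_right, ← cfdot_eq_of_central k1 k5 hν hν1 e1 e1,
      Irr.cfdot_self hθ'])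
  have e6 : res (K₁ ⊓ N) ξ ∈ Irr (K₁ ⊓ N) := ((Irr.isChar hξ').res e4).mem_Irr_of_cfdot (by
    rw [cfdot_res_left, cfdot_res_right, ← cfdot_eq_of_central e4 e3 hν hν1 e2 e2,
      Irr.cfdot_self hξ'])
  have e7 : G ≤ inertia (res K₁ θ) := fun g hg => by rw [mem_inertia, cfConj_res (k6 hg), hI hg]
  have e8 : res K₁ η = res K₁ θ := by rw [← h2, res_res k1]
  have e9 : res (K₁ ⊓ N) ζ = res (K₁ ⊓ N) ξ := by rw [← h6, res_res e4]
  rw [extends_res_iff hD1 hU (hUG.trans hQ) h1 (hUG.trans h3) (A := K₁ ⊔ (K₁ ⊓ N ⊔ A)) (C := K₁)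
    (sup_le (k1.trans hKU) (a5.trans inf_le_left)) (fun u hu => by
      obtain ⟨k, h1, n, h2, rfl⟩ := hF u (hUG hu)
      obtain ⟨a, h3, s, h4, rfl⟩ := a8 n ⟨(U.mul_mem_cancel_left (hKU h1)).1 hu, h2⟩
      exact ⟨a, mem_sup_right h3, a⁻¹ * k * a⁻¹⁻¹ * s, mul_mem_sup
        ((hK (hUG (inv_mem (a5 h3).1)) k).1 h1) h4, by group⟩)
    (le_antisymm (k7 _ inf_le_right fun e => not_dvd_card_sup a9 k2 a6
      (e.trans (card_dvd_of_le inf_le_left))) (le_inf le_sup_left (k1.trans le_sup_left)))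
    (k1.trans le_sup_left) (e8 ▸ e5),
    extends_res_iff hD5 (inf_le_inf_right N hU) (inf_le_right.trans hQ') h5 (inf_le_right.trans h7)
    a5 (C := K₁ ⊓ N) (fun u hu => by
      obtain ⟨a, h3, s, h4, rfl⟩ := a8 u hu
      exact ⟨a, h3, s, mem_sup_right h4, rfl⟩)
    (le_antisymm ((inf_le_inf_left _ (sup_le_sup_right hCK S)).trans a7)
      (le_inf le_sup_left (e4.trans le_sup_left))) (e4.trans hD4) (e9 ▸ e6), e8, e9]
  refine extends_iff_of_glauberman hS (hSG.trans k6) a9 ((a5.trans inf_le_right).trans hNS) k8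
    le_sup_left k2 a6 (le_trans (le_inf (commutator_le_of_le_normalizer le_normalizer)
      (((commutator_mono (a5.trans inf_le_left) (a5.trans inf_le_left)).trans hab).trans hD1)) a7)
    ⟨e5, hSG.trans e7⟩ ((a5.trans inf_le_right).trans (hNG.trans e7)) e6 ?_
  rwa [ndot, cfdot_res_right, ← cfdot_res_left, res_res inf_le_left, cfdot_res_left,
    ← cfdot_eq_of_central e4 e3 hν hν1 e1 e2]

variable (p G L) in
/-- The section `G / L` is `p`-solvable. -/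
def PSolvMod : Prop := ∀ T K : Subgroup X, L ≤ K → K < T → T ≤ G → T ≤ normalizer (K : Set X) →
  ∃ K', K < K' ∧ K' ≤ T ∧ T ≤ normalizer (K' : Set X) ∧
    ((∃ k, K.relIndex K' = p ^ k) ∨ ¬ p ∣ K.relIndex K')

omit hp in
theorem PSolvMod.mono (h : PSolvMod p G L) (h1 : H ≤ G) (h2 : L ≤ K) : PSolvMod p H K :=
  fun T K' e1 e2 e3 => h T K' (h2.trans e1) e2 (e3.trans h1)

theorem pSolvMod_of_isPSolvable (h : IsPSolvable p G) (L : Subgroup X) : PSolvMod p G L := by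
  intro T K _ h1 h2 h3
  have := normal_subgroupOf h1.le h3
  have : Nontrivial (T ⧸ K.subgroupOf T) :=
    QuotientGroup.nontrivial_iff.2 fun e => h1.not_ge (subgroupOf_eq_top.1 e)
  obtain ⟨M, h4, h5, h6⟩ : ∃ M : Subgroup (T ⧸ K.subgroupOf T), M.Normal ∧ M ≠ ⊥ ∧
      ((∃ k, Nat.card M = p ^ k) ∨ ¬ p ∣ Nat.card M) := by
    rcases Core.pCore_ne_bot_or_of_isPSolvable
      (Core.isPSolvable_quotient (Core.isPSolvable_of_le h h2) (K.subgroupOf T)) with e | e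
    · exact ⟨_, inferInstance, e, Or.inl (IsPGroup.iff_card.1 (Core.pCore_isPGroup p _))⟩
    · exact ⟨_, inferInstance, e, Or.inr (Core.not_dvd_card_pPrimeCore p _)⟩
  have h7 : K ≤ (M.comap (QuotientGroup.mk' _)).map T.subtype := fun k hk =>
    ⟨⟨k, h1.le hk⟩, by
      rw [SetLike.mem_coe, mem_comap, QuotientGroup.mk'_apply,
        (QuotientGroup.eq_one_iff (N := K.subgroupOf T) ⟨k, h1.le hk⟩).2 hk]
      exact one_mem _, rfl⟩
  have h8 : K.relIndex ((M.comap (QuotientGroup.mk' _)).map T.subtype) = Nat.card M := by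
    rw [← relIndex_subgroupOf (map_subtype_le _), ← comap_subtype (K := T)
      (H := Subgroup.map _ _), comap_map_eq_self_of_injective T.subtype_injective]
    have := relIndex_ker (QuotientGroup.mk' (K.subgroupOf T)) (K := M.comap (QuotientGroup.mk' _))
    rwa [QuotientGroup.ker_mk',
      map_comap_eq_self_of_surjective (QuotientGroup.mk'_surjective _)] at this
  refine ⟨_, h7.lt_of_ne fun e => h5 ?_, map_subtype_le _, fun t ht => mem_normalizer_fintype ?_,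
    h8 ▸ h6⟩
  · rw [← e, relIndex_self] at h8
    exact Subgroup.card_eq_one.1 h8.symm
  · rintro _ ⟨x, hx, rfl⟩
    exact ⟨_, (h4.comap (QuotientGroup.mk' _)).conj_mem x hx ⟨t, ht⟩, rfl⟩

theorem sup_eq_of_sylow (hL : L ≤ Q) (hS : S ≤ Q) {k : ℕ} (h1 : L.relIndex Q = p ^ k)
    (h2 : ¬ p ∣ S.relIndex Q) : L ⊔ S = Q :=
  le_antisymm (sup_le hL hS) (relIndex_eq_one.1 (Nat.eq_one_of_dvd_coprimes
    (((Nat.Prime.coprime_iff_not_dvd hp.out).2 h2).pow_left k)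
    (h1 ▸ relIndex_dvd_of_le_left Q le_sup_left) (relIndex_dvd_of_le_left Q le_sup_right)))

omit hp in
theorem relIndex_lt_of_lt_left (h1 : L < K) (h2 : K ≤ G) : K.relIndex G < L.relIndex G := by
  rw [← relIndex_mul_relIndex L K G h1.le h2]
  exact lt_mul_of_one_lt_left (relIndex_pos _ _)
    (Nat.one_lt_iff_ne_zero_and_ne_one.2 ⟨relIndex_ne_zero _ _, mt relIndex_eq_one.1 h1.not_ge⟩)

omit hp in
theorem relIndex_lt_of_lt_right (h1 : L ≤ K) (h2 : K < G) : L.relIndex K < L.relIndex G := by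
  rw [← relIndex_mul_relIndex L K G h1 h2.le]
  exact lt_mul_of_one_lt_right (relIndex_pos _ _)
    (Nat.one_lt_iff_ne_zero_and_ne_one.2 ⟨relIndex_ne_zero _ _, mt relIndex_eq_one.1 h2.not_ge⟩)

theorem inf_normalizer_sup_eq (hLG : L ≤ G) (hc : ∀ z ∈ L, ∀ u ∈ G, u * z = z * u)
    (hS : IsPGroup p S) (hSG : S ≤ G) (hi : ¬ p ∣ S.relIndex G) :
    G ⊓ normalizer ((L ⊔ S : Subgroup X) : Set X) = G ⊓ normalizer (S : Set X) :=
  le_antisymm (fun g hg => ⟨hg.1, mem_normalizer_of_conj_le (le_of_coprime_relIndex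
    (conj_le_iff.2 fun s hs => (hg.2 s).1 (mem_sup_right hs)) le_sup_right
    (sup_le (fun z hz => mem_normalizer_fintype fun s hs => by
      rwa [← hc z hz s (hSG hs), mul_inv_cancel_right]) le_normalizer)
    (coprime_card_of_isPGroup (isPGroup_conj hS g)
    (not_dvd_relIndex_of_le le_sup_right (sup_le hLG hSG) hi)))⟩)
    (le_inf inf_le_left (le_normalizer_sup (inf_le_left.trans (le_normalizer_of_central hc))
      inf_le_right))

theorem modCor_of_central (hc : ∀ z ∈ L, ∀ u ∈ G, u * z = z * u) (hS : IsPGroup p S) (hSG : S ≤ G)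
    (hi : ¬ p ∣ S.relIndex G) (h2 : L ≤ K) (h3 : K ≤ G) (h4 : G ≤ normalizer (K : Set X))
    (h5 : ¬ p ∣ L.relIndex K) (hN : N = G ⊓ normalizer (S : Set X)) :
    ModCor p (K ⊓ N) (InvIrr K S) (InvIrr (K ⊓ N) S) := by
  have hn := le_normalizer_of_central hc
  obtain ⟨k, hk⟩ := exists_relIndex_sup_eq_pow hS (hSG.trans hn)
  refine modCor_relGlauberman hS h2 (h3.trans hn) (hSG.trans h4)
    (hSG.trans hn) h5 fun c => and_congr_right fun h8 => ⟨fun h9 s hs => ?_, fun h9 => ?_⟩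
  · have h10 : K ⊓ S ≤ L := relIndex_eq_one.1 (Nat.eq_one_of_dvd_coprimes
      (((Nat.Prime.coprime_iff_not_dvd hp.out).2 h5).pow_left k) (hk ▸
      relIndex_dvd_of_le_normalizer (inf_le_right.trans le_sup_right) le_sup_left
        (sup_le le_normalizer (hSG.trans hn))) (relIndex_dvd_of_le_normalizer inf_le_left h2
        (h3.trans hn)))
    refine h10 ⟨K.mul_mem ((h4 (hSG hs) c).1 h8) (K.inv_mem h8), ?_⟩
    rw [mul_assoc, mul_assoc, ← mul_assoc c]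
    exact S.mul_mem hs (((hN.le h9).2 _).1 (S.inv_mem hs))
  · rw [hN, ← inf_normalizer_sup_eq (h2.trans h3) hc hS hSG hi]
    refine ⟨h3 h8, mem_normalizer_fintype fun x hx => ?_⟩
    obtain ⟨z, h10, s, h11, rfl⟩ := exists_mul_of_mem_sup (hSG.trans hn) hx
    rw [show c * (z * s) * c⁻¹ = c * z * c⁻¹ * (s * c * s⁻¹ * c⁻¹)⁻¹ * s by group]
    exact mul_mem_sup (mul_mem ((hn (h3 h8) z).1 h10) (inv_mem (h9 s h11))) h11

theorem card_IrrP_eq_of_coprime (hc : ∀ z ∈ L, ∀ u ∈ G, u * z = z * u)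
    (hS : IsPGroup p S) (hSG : S ≤ G) (hi : ¬ p ∣ S.relIndex G) (hν : ν ∈ Irr L) (h2 : L ≤ K)
    (h3 : K ≤ G) (h4 : G ≤ normalizer (K : Set X)) (h5 : ¬ p ∣ L.relIndex K)
    (hQ : G ≤ normalizer ((K ⊔ S : Subgroup X) : Set X)) (hN : N = G ⊓ normalizer (S : Set X)) :
    (IrrP p G L ν).card = (IrrP p N L ν).card := by
  have hn := le_normalizer_of_central hc
  have hI : G ≤ inertia ν := fun u hu => mem_inertia_of (Irr.mem_CF hν) (hn hu) fun z hz => by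
    rw [hc z hz u hu, mul_inv_cancel_right]
  have hNG : N ≤ G := hN ▸ inf_le_left
  have hNS : N ≤ normalizer (S : Set X) := hN ▸ inf_le_right
  have hSN : S ≤ N := hN ▸ le_inf hSG le_normalizer
  have hLN : L ≤ N := hN ▸ le_inf (h2.trans h3) fun z hz => mem_normalizer_fintype
    fun s hs => by rwa [← hc z hz s (hSG hs), mul_inv_cancel_right]
  have hNC : N ≤ normalizer ((K ⊓ N : Subgroup X) : Set X) :=
    le_normalizer_inf (hNG.trans h4) le_normalizer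
  have h8 := (modCor_of_central hc hS hSG hi h2 h3 h4 h5 hN).over
    (le_inf h2 hLN) inf_le_left (h3.trans hn) hν (h3.trans hI)
  have k1 : ∀ {V : Subgroup X} {θ : X → ℂ} {g : X}, N ≤ normalizer (V : Set X) →
      θ ∈ InvO V L ν S → g ∈ N → cfConj g θ ∈ InvO V L ν S := fun hV hθ hg => by
    have := cfConj_mem_IrrO (hV hg) (hn (hNG hg)) hθ.1
    rw [hI (hNG hg)] at this
    exact ⟨this, fun s hs => mem_inertia_cfConj.2 (hθ.2 ((hNS hg s).1 hs))⟩
  refine card_IrrP_eq_of_rel hS hν (N := N) ⟨h2, h3, h4, hn, hI, hSG, hi, hN.symm⟩ (K' := K ⊓ N)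
    ⟨le_inf h2 hLN, inf_le_right, hNC, hNG.trans hn, hNG.trans hI, hSN,
      not_dvd_relIndex_of_le hSN hNG hi, inf_eq_left.2 hNS⟩
    (I := {i | (i.1 ∈ InvO K L ν S ∧ i.2 ∈ InvO (K ⊓ N) L ν S) ∧
      (ndot (K ⊓ N) i.1 i.2 : ZMod p) ≠ 0}) (fun i h => h.1) (fun θ h => ?_) (fun ξ h => ?_)
    (fun i h j h' => ?_) fun i h => ?_
  · obtain ⟨ξ, h9, h10, -⟩ := h8.row θ h
    exact ⟨(θ, ξ), ⟨⟨h, h9⟩, ne_zero_of_sign h10⟩, rfl⟩
  · obtain ⟨θ, h9, h10⟩ := h8.col ξ h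
    exact ⟨(θ, ξ), ⟨⟨h9, h⟩, h10⟩, rfl⟩
  · rw [mem_cfclass, mem_cfclass]
    exact exists_congr fun g => and_congr_right fun hg => (h8.cfConj_eq_iff h'.1.1 h'.1.2 h.2 h'.2
      (hNC hg) (k1 (hNG.trans h4) h.1.1 hg) (k1 hNC h.1.2 hg)).symm
  obtain ⟨⟨⟨h9, h10⟩, h11, h12⟩, h13⟩ := h
  have h14 : K ≤ inertia i.1 := CF.le_inertia (Irr.mem_CF (mem_IrrO.1 h9).1)
  have h15 : N ⊓ inertia i.2 = G ⊓ inertia i.1 ⊓ normalizer (S : Set X) := by
    rw [inf_right_comm, ← hN]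
    exact Subgroup.ext fun g => and_congr_right fun hg => (h8.cfConj_eq_iff ⟨h9, h10⟩ ⟨h11, h12⟩
      h13 h13 (hNC hg) (k1 (hNG.trans h4) ⟨h9, h10⟩ hg) (k1 hNC ⟨h11, h12⟩ hg)).symm
  rw [card_IrrP_inertia h3 h4 (mem_IrrO.1 h9).1 fun e => hi
      (e.trans (relIndex_dvd_of_le_left G h10)),
    card_IrrP_inertia inf_le_right hNC (mem_IrrO.1 h11).1 fun e => not_dvd_relIndex_of_le hSN hNG hi
      (e.trans (relIndex_dvd_of_le_left N h12))]
  exact card_IrrP_eq_of_inv h2 (le_inf h3 h14) (fun z hz u hu => hc z hz u hu.1)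
    (inf_le_left.trans h4) hS (le_inf hSG h10)
    (not_dvd_relIndex_of_le (le_inf hSG h10) inf_le_left hi) h5 (inf_le_left.trans hQ) h15
    (le_antisymm (le_inf inf_le_left (le_inf inf_le_right
      (CF.le_inertia (Irr.mem_CF (mem_IrrO.1 h11).1)))) (inf_le_inf_left K inf_le_left))
    hν h9 inf_le_right h11 inf_le_right h13

theorem card_IrrP_eq_of_central (hLG : L ≤ G) (hc : ∀ z ∈ L, ∀ u ∈ G, u * z = z * u)
    (hS : IsPGroup p S) (hSG : S ≤ G) (hi : ¬ p ∣ S.relIndex G) (hs : PSolvMod p G L)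
    (hν : ν ∈ Irr L)
    (ih : ∀ H K θ, L ≤ K → K ≤ H → H ≤ G → H ≤ normalizer (K : Set X) → S ≤ H → θ ∈ InvIrr K S →
      K.relIndex H < L.relIndex G → (IrrP p H K θ).card =
        (IrrP p (H ⊓ normalizer ((K ⊔ S : Subgroup X) : Set X)) K θ).card) :
    (IrrP p G L ν).card = (IrrP p (G ⊓ normalizer ((L ⊔ S : Subgroup X) : Set X)) L ν).card := by
  have hn := le_normalizer_of_central hc
  have hI : G ≤ inertia ν := fun u hu => mem_inertia_of (Irr.mem_CF hν) (hn hu) fun z hz => by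
    rw [hc z hz u hu, mul_inv_cancel_right]
  rcases hLG.eq_or_lt with rfl | h1
  · rw [sup_eq_left.2 hSG, inf_eq_left.2 le_normalizer]
  obtain ⟨K, h2, h3, h4, h5⟩ := hs G L le_rfl h1 le_rfl hn
  set M := G ⊓ normalizer ((K ⊔ S : Subgroup X) : Set X) with hM
  have hKM : K ⊔ S ≤ M := le_inf (sup_le h3 hSG) le_normalizer
  have hMG : M ≤ G := inf_le_left
  have s1 : Side p G K L S _ ν := ⟨h2.le, h3, h4, hn, hI, hSG, hi, rfl⟩
  rcases hMG.lt_or_eq with h6 | h6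
  · have h7 : G ⊓ normalizer (S : Set X) ≤ M :=
      le_inf inf_le_left (le_normalizer_sup (inf_le_left.trans h4) inf_le_right)
    rw [card_IrrP_eq_of_rel hS hν s1 (U' := M) (K' := K) ⟨h2.le, le_sup_left.trans hKM,
      hMG.trans h4, hMG.trans hn, hMG.trans hI, le_sup_right.trans hKM,
      not_dvd_relIndex_of_le (le_sup_right.trans hKM) hMG hi,
      le_antisymm (inf_le_inf_right _ hMG) (le_inf h7 inf_le_right)⟩
      (I := {i | i.1 ∈ InvO K L ν S ∧ i.2 = i.1}) (fun i h => ⟨h.1, h.2 ▸ h.1⟩)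
      (fun θ h => ⟨(θ, θ), ⟨h, rfl⟩, rfl⟩) (fun θ h => ⟨(θ, θ), ⟨h, rfl⟩, rfl⟩)
      (fun i h j h' => by rw [h.2, h'.2]) fun i h => by
        rw [h.2]
        exact ih G K _ h2.le h3 le_rfl h4 hSG ⟨(mem_IrrO.1 h.1.1).1, h.1.2⟩
          (relIndex_lt_of_lt_left h2 h3),
      ih M L ν le_rfl (h2.le.trans (le_sup_left.trans hKM)) hMG (hMG.trans hn)
        (le_sup_right.trans hKM) ⟨hν, hSG.trans hI⟩
        (relIndex_lt_of_lt_right (h2.le.trans (le_sup_left.trans hKM)) h6)]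
    congr 2
    refine le_antisymm (inf_le_inf_right _ hMG) (le_inf (le_inf inf_le_left ?_) inf_le_right)
    have := le_normalizer_sup (A := G ⊓ normalizer ((L ⊔ S : Subgroup X) : Set X))
      (inf_le_left.trans h4) inf_le_right
    rwa [← sup_assoc, sup_eq_left.2 h2.le] at this
  have hQ : G ≤ normalizer ((K ⊔ S : Subgroup X) : Set X) := h6 ▸ inf_le_right
  obtain ⟨j, hj⟩ := exists_relIndex_sup_eq_pow hS (hSG.trans h4)
  rcases h5 with ⟨k, h5⟩ | h5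
  · rw [sup_eq_of_sylow (h2.le.trans le_sup_left) le_sup_right (k := k + j)
      (by rw [← relIndex_mul_relIndex L K _ h2.le le_sup_left, h5, hj, pow_add])
      (not_dvd_relIndex_of_le le_sup_right (sup_le h3 hSG) hi), inf_eq_left.2 hQ]
  exact card_IrrP_eq_of_coprime hc hS hSG hi hν h2.le h3 h4 h5 hQ
    (inf_normalizer_sup_eq hLG hc hS hSG hi)

section Triple

variable {Y Γ : Type u} [Group Y] [Group Γ] [Finite Y] [Finite Γ] {π : Γ →* X} {q : Γ →* Y}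
  {μ : Y → ℂ} {Φ : (Y → ℂ) → X → ℂ}

omit hp in
theorem Triple.mem_normalizer_iff (h : Triple W G N θ π q μ Φ) (hU : N ≤ U) (hW : U ≤ W) {g : Γ} :
    q g ∈ normalizer (up π q U : Set Y) ↔ π g ∈ normalizer (U : Set X) := by
  refine ⟨fun h1 => mem_normalizer_fintype fun x hx => ?_, h.mem_normalizer hU⟩
  obtain ⟨a, rfl⟩ := h.exists_lift (hW hx)
  have := (h1 _).1 ((h.mem_up hU).2 hx)
  rwa [← map_inv, ← map_mul, ← map_mul, SetLike.mem_coe, h.mem_up hU, map_mul, map_mul,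
    map_inv] at this

omit hp in
theorem Triple.up_le_up_iff (h : Triple W G N θ π q μ Φ) (hV : N ≤ V) (hW : U ≤ W) :
    up π q U ≤ up π q V ↔ U ≤ V := by
  refine ⟨fun h1 x hx => ?_, up_mono π q⟩
  obtain ⟨a, rfl⟩ := h.exists_lift (hW hx)
  exact (h.mem_up hV).1 (h1 ⟨a, hx, rfl⟩)

omit hp in
theorem Triple.pSolvMod (h : Triple G G N θ π q μ Φ) (hs : PSolvMod p G N) :
    PSolvMod p (up π q G) (up π q N) := by
  intro T K h1 h2 _ h3
  obtain ⟨K, h4, h5, rfl⟩ := h.exists_up_eq h1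
  obtain ⟨T, h6, h7, rfl⟩ := h.exists_up_eq (h1.trans h2.le)
  obtain ⟨K', h8, h9, h10, h11⟩ := hs T K h4 (lt_of_le_not_ge ((h.up_le_up_iff h6 h5).1 h2.le)
    fun e => h2.not_ge (up_mono π q e)) h7 fun t ht => by
      obtain ⟨a, rfl⟩ := h.exists_lift (h7 ht)
      exact (h.mem_normalizer_iff h4 h5).1 (h3 ⟨a, ht, rfl⟩)
  exact ⟨_, lt_of_le_not_ge (up_mono π q h8.le) fun e => h8.not_ge
    ((h.up_le_up_iff h4 (h9.trans h7)).1 e), up_mono π q h9, h.le_normalizer (h4.trans h8.le) h10,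
    by rwa [h.relIndex_up h4 (h9.trans h7)]⟩

theorem Triple.card_IrrP (h : Triple W G N θ π q μ Φ) (hθ : θ ∈ Irr N) (hd : ¬ p ∣ deg θ)
    (hU : N ≤ U) (hG : U ≤ G) : (IrrP p U N θ).card = (IrrP p (up π q U) (up π q N) μ).card := by
  have h1 := h.bij U hU hG
  have h2 : ∀ β ∈ IrrO (up π q U) (up π q N) μ, p ∣ deg (Φ β) ↔ p ∣ deg β := fun β hβ => by
    rw [h.deg_eq hθ hU hβ, hp.out.dvd_mul, or_iff_right hd]
  refine (Finset.card_nbij Φ (fun ψ hψ => ?_) (fun ψ hψ φ hφ e =>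
    h1.injOn (mem_IrrP.1 hψ).1 (mem_IrrP.1 hφ).1 e) fun χ hχ => ?_).symm
  · exact mem_IrrP.2 ⟨h1.mapsTo (mem_IrrP.1 hψ).1, (h2 ψ (mem_IrrP.1 hψ).1).not.2 (mem_IrrP.1 hψ).2⟩
  · obtain ⟨ψ, h3, rfl⟩ := h1.surjOn (mem_IrrP.1 hχ).1
    exact ⟨ψ, mem_IrrP.2 ⟨h3, (h2 ψ h3).not.1 (mem_IrrP.1 hχ).2⟩, rfl⟩

end Triple

/-- The relative McKay equality. -/
theorem card_IrrP_eq (n : ℕ) : ∀ (X : Type u) [Group X] [Finite X] (G L S : Subgroup X)
    (ν : X → ℂ), L ≤ G → G ≤ normalizer (L : Set X) → IsPGroup p S → S ≤ G → ¬ p ∣ S.relIndex G →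
    PSolvMod p G L → ν ∈ InvIrr L S → L.relIndex G < n → (IrrP p G L ν).card =
      (IrrP p (G ⊓ normalizer ((L ⊔ S : Subgroup X) : Set X)) L ν).card := by
  induction n with
  | zero => exact fun _ _ _ _ _ _ _ _ _ _ _ _ _ _ h => absurd h (Nat.not_lt_zero _)
  | succ n ih =>
  intro X _ _ G L S ν hLG hn hS hSG hi hs ⟨hν, hI⟩ hlt
  have hP : L ⊔ S ≤ G ⊓ normalizer ((L ⊔ S : Subgroup X) : Set X) :=
    le_inf (sup_le hLG hSG) le_normalizer
  by_cases hd : p ∣ deg ν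
  · have : ∀ U, L ≤ U → U ≤ G → IrrP p U L ν = ∅ := fun U h1 h2 =>
      Finset.eq_empty_of_forall_notMem fun χ hχ => by
        obtain ⟨k, -, h3⟩ := exists_deg_eq_mul h1 (h2.trans hn) hν (mem_IrrP.1 hχ).1
        exact (mem_IrrP.1 hχ).2 (h3 ▸ hd.mul_left k)
    rw [this G hLG le_rfl, this _ (le_sup_left.trans hP) inf_le_left]
  rw [card_IrrP_inertia hLG hn hν fun e => hi (e.trans (relIndex_dvd_of_le_left G hI)),
    card_IrrP_inertia (le_sup_left.trans hP) (inf_le_left.trans hn) hν fun e =>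
      not_dvd_relIndex_of_le (le_sup_right.trans hP) inf_le_left hi
        (e.trans (relIndex_dvd_of_le_left _ hI)), inf_right_comm]
  obtain ⟨T, hT⟩ : ∃ T, T = G ⊓ inertia ν := ⟨_, rfl⟩
  rw [← hT]
  have hTG : T ≤ G := hT ▸ inf_le_left
  have hLT : L ≤ T := hT ▸ le_inf hLG (CF.le_inertia (Irr.mem_CF hν))
  have hST : S ≤ T := hT ▸ le_inf hSG hI
  have hPT := sup_le hLT hST
  obtain ⟨Γ, Y, _, _, _, _, π, q, μ, Φ, h, -⟩ := exists_triple hLT le_rfl le_normalizer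
    (hTG.trans hn) hν (hT ▸ inf_le_right)
  obtain ⟨R, -, h1, h2, h3⟩ := exists_sylowIn_ge (IsPGroup.of_bot (p := p))
    (bot_le (a := up π q (L ⊔ S)))
  obtain ⟨k, hk⟩ := exists_relIndex_sup_eq_pow hS (hSG.trans hn)
  have h4 := sup_eq_of_sylow (up_mono π q le_sup_left) h1
    ((h.relIndex_up le_rfl hPT).trans hk) h3
  have h5 : ¬ p ∣ R.relIndex (up π q T) := by
    rw [← relIndex_mul_relIndex R _ _ h1 (up_mono π q hPT), h.relIndex_up le_sup_left le_rfl,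
      hp.out.dvd_mul]
    exact fun e => e.elim h3 fun e => not_dvd_relIndex_of_le hST hTG hi
      (e.trans (relIndex_dvd_of_le_left _ le_sup_right))
  have h6 := h.pSolvMod (hs.mono hTG le_rfl)
  rw [h.card_IrrP hν hd hLT le_rfl, h.card_IrrP hν hd
    (le_inf hLT (le_sup_left.trans le_normalizer)) inf_le_left,
    card_IrrP_eq_of_central (up_mono π q hLT) (fun z hz u _ => mem_center_iff.1 (h.cent hz) u) h2
      (h1.trans (up_mono π q hPT)) h5 h6 h.irr fun H K θ e1 e2 e3 e4 e5 e6 e7 => ih Y H K R θ e2 e4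
        h2 e5 (not_dvd_relIndex_of_le e5 e3 h5) (h6.mono e3 e1) e6 (e7.trans_le (by
          rw [h.relIndex_up le_rfl le_rfl]
          exact (Nat.le_of_dvd (relIndex_pos _ _)
            (Dvd.intro _ (relIndex_mul_relIndex L T G hLT hTG))).trans (Nat.lt_succ_iff.1 hlt))),
    h4]
  congr 2
  ext y
  obtain ⟨g, rfl⟩ := h.surj y
  rw [h.mem_up (le_inf hLT (le_sup_left.trans le_normalizer)), mem_inf, mem_inf, h.mem_up hLT,
    h.mem_normalizer_iff le_sup_left hPT]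

end Cfsg.Lib.Rel
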