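import Cfsg.Agent.Lib.Rel.Good
import Cfsg.Agent.Lib.Coprime.Generation

/-!
# The Okuyama-Wajima argument: extendibility above the Glauberman correspondence
-/

set_option autoImplicit false
set_option linter.unusedSectionVars false

namespace Cfsg.Lib.Rel

open Cfsg.Lib.PF Cfsg.Lib.Char Cfsg.Lib.Coprime Subgroup
open scoped ComplexConjugate commutatorElement

universe u

variable {X : Type*} [Group X] [Finite X]
variable {p : ℕ} {K C U V T N S R A B : Subgroup X} {θ χ ψ φ ξ : X → ℂ}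

theorem ndot_eq_sum (hCV : C ≤ V) (hVU : V ≤ U) (hχ : IsChar U χ) (hξ : IsChar C ξ) :
    ndot C χ ξ = ∑ φ ∈ Irr V, ndot V χ φ * ndot C φ ξ := ndot_of_eq (by
  rw [← cfdot_res_left, ← res_res hCV, cfdot_res_left, CF.eq_sum_Irr (hχ.res hVU).mem_CF,
    cfdot_sum_left, Nat.cast_sum]
  exact Finset.sum_congr rfl fun φ h => by
    rw [cfdot_smul_left, cfdot_res_left, Nat.cast_mul, ndot_cast hVU hχ (Irr.isChar h),
      ndot_cast hCV (Irr.isChar h) hξ])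

theorem cast_ndot_eq_mul [Fact p.Prime] (hCV : C ≤ V) (hVU : V ≤ U) (hχ : IsChar U χ)
    (hξ : IsChar C ξ) (hφ : φ ∈ Irr V)
    (h : ∀ φ' ∈ Irr V, (ndot V χ φ' : ZMod p) ≠ 0 → φ' = φ) :
    (ndot C χ ξ : ZMod p) = ndot V χ φ * ndot C φ ξ := by
  rw [ndot_eq_sum hCV hVU hχ hξ, Nat.cast_sum, Finset.sum_eq_single_of_mem φ hφ fun φ' h1 h2 => by
    rw [Nat.cast_mul, not_not.1 fun e => h2 (h φ' h1 e), zero_mul], Nat.cast_mul]

theorem ndot_ne_zero_of_mem [hp : Fact p.Prime] (hNU : N ≤ U) (hn : U ≤ normalizer (N : Set X))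
    (hθ : θ ∈ Irr N) (hI : U ≤ inertia θ) (hχ : χ ∈ IrrO U N θ) (h : ¬ p ∣ N.relIndex U) :
    (ndot N χ θ : ZMod p) ≠ 0 := fun e => by
  obtain ⟨k, h1, h2⟩ := exists_deg_eq_mul hNU hn hθ hχ
  rw [deg_eq_ndot_mul hNU hn hθ hI hχ, Nat.mul_left_inj (Irr.deg_pos hθ).ne'] at h2
  exact h (((ZMod.natCast_eq_zero_iff _ _).1 e).trans (h2 ▸ h1))

theorem ndot_cfConj {g : X} (hg : g ∈ normalizer (C : Set X)) (χ ξ : X → ℂ) :
    ndot C (cfConj g χ) (cfConj g ξ) = ndot C χ ξ := by rw [ndot, ndot, cfdot_cfConj hg]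

theorem ModCor.eq_of_ne_zero {A B : Set (X → ℂ)} (h : ModCor p C A B) (hχ : χ ∈ A) (hξ : ξ ∈ B)
    (hψ : ψ ∈ B) (h1 : (ndot C χ ξ : ZMod p) ≠ 0) (h2 : (ndot C χ ψ : ZMod p) ≠ 0) : ξ = ψ := by
  obtain ⟨ζ, -, -, h3⟩ := h.row χ hχ
  rw [h3 ξ hξ h1, h3 ψ hψ h2]

theorem ModCor.cfConj_eq_iff {A B : Set (X → ℂ)} (h : ModCor p C A B) {χ' ξ' : X → ℂ}
    (hχ' : χ' ∈ A) (hξ' : ξ' ∈ B) (h1 : (ndot C χ ξ : ZMod p) ≠ 0)
    (h2 : (ndot C χ' ξ' : ZMod p) ≠ 0) {g : X} (hg : g ∈ normalizer (C : Set X))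
    (h3 : cfConj g χ ∈ A) (h4 : cfConj g ξ ∈ B) : cfConj g χ = χ' ↔ cfConj g ξ = ξ' := by
  rw [← ndot_cfConj hg] at h1
  exact ⟨fun e => h.eq_of_ne_zero hχ' h4 hξ' (e ▸ h1) h2,
    fun e => h.inj _ h3 _ hχ' _ hξ' (e ▸ h1) h2⟩

theorem cfConj_mem_InvIrr {g : X} (hU : g ∈ normalizer (U : Set X))
    (hS : g ∈ normalizer (S : Set X)) (h : χ ∈ InvIrr U S) : cfConj g χ ∈ InvIrr U S :=
  ⟨Irr.cfConj_mem hU h.1, fun s hs => mem_inertia_cfConj.2 (h.2 ((hS s).1 hs))⟩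

theorem modCor_glauberman' [Fact p.Prime] (hR : IsPGroup p R) (hRK : R ≤ normalizer (K : Set X))
    (hK : ¬ p ∣ Nat.card K) (hC : C = K ⊓ centralizer (R : Set X)) :
    ModCor p C (InvIrr K R) (Irr C) := by
  rw [hC, ← invIrr_centralizer]
  exact modCor_glauberman hR hRK hK

theorem extends_iff_of_cyclic (hNU : N ≤ U) (hUT : U ≤ T) (hn : T ≤ normalizer (U : Set X))
    (hθ : θ ∈ Irr N) {a : X} (ha : a ∈ T) (hc : ∀ t ∈ T, ∃ n : ℤ, (a ^ n)⁻¹ * t ∈ U) :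
    Extends T N θ ↔ ∃ χ ∈ Irr U, res N χ = θ ∧ a ∈ inertia χ := by
  refine ⟨fun ⟨χ, h1, h2⟩ => ⟨_, res_mem_Irr_of_res hNU hUT (Irr.isChar h1) (h2 ▸ hθ),
    by rw [res_res hNU, h2], by
      rw [mem_inertia, cfConj_res (hn ha), CF.cfConj_eq (Irr.mem_CF h1) ha]⟩,
    fun ⟨χ, h1, h2, h3⟩ => ?_⟩
  obtain ⟨ψ, h4, h5⟩ := exists_extension_of_cyclic hUT hn h1 (fun t ht => by
    obtain ⟨n, h4⟩ := hc t ht
    simpa using mul_mem (zpow_mem h3 n) (CF.le_inertia (Irr.mem_CF h1) h4)) ha hc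
  exact ⟨ψ, h4, by rw [← res_res hNU, h5, h2]⟩

theorem coprime_card_of_isPGroup [hp : Fact p.Prime] (hR : IsPGroup p R) {n : ℕ} (h : ¬ p ∣ n) :
    (Nat.card R).Coprime n := by
  obtain ⟨k, hk⟩ := IsPGroup.iff_card.1 hR
  rw [hk]
  exact Nat.Coprime.pow_left k ((Nat.Prime.coprime_iff_not_dvd hp.out).2 h)

theorem not_dvd_card_sup [hp : Fact p.Prime] (h : A ≤ normalizer (K : Set X))
    (hK : ¬ p ∣ Nat.card K) (hA : ¬ p ∣ Nat.card A) : ¬ p ∣ Nat.card ↥(K ⊔ A) := fun e =>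
  ((Nat.Prime.dvd_mul hp.out).1 (e.trans (card_sup_dvd h))).elim hK hA

/-- The Glauberman correspondence respects normal subgroups with centralized quotient. -/
theorem mem_IrrO_iff_of_glauberman [hp : Fact p.Prime] (hR : IsPGroup p R)
    (hRK : R ≤ normalizer (K : Set X)) (hBK : B ≤ normalizer (K : Set X))
    (hC : C = K ⊓ centralizer (R : Set X)) (hCB : C ≤ B) (hB : B ≤ centralizer (R : Set X))
    (hK : ¬ p ∣ Nat.card K) (hB' : ¬ p ∣ Nat.card B) (hθ : θ ∈ InvIrr K R) (hI : B ≤ inertia θ)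
    (hξ : ξ ∈ Irr C) (h : (ndot C θ ξ : ZMod p) ≠ 0) (hχ : χ ∈ InvIrr (K ⊔ B) R) (hψ : ψ ∈ Irr B)
    (h1 : ∀ ψ' ∈ Irr B, (ndot B χ ψ' : ZMod p) ≠ 0 ↔ ψ' = ψ) :
    χ ∈ IrrO (K ⊔ B) K θ ↔ ψ ∈ IrrO B C ξ := by
  have hU := not_dvd_card_sup hBK hK hB'
  have hM := modCor_glauberman' hR hRK hK hC
  have hBR : B ≤ normalizer (R : Set X) := hB.trans (centralizer_le_normalizer _)
  have hBC : B ≤ normalizer (C : Set X) :=
    hC ▸ le_normalizer_inf hBK (le_normalizer_centralizer hBR)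
  have hn : K ⊔ B ≤ normalizer (K : Set X) := sup_le le_normalizer hBK
  have h2 := cast_ndot_eq_mul hCB le_sup_right (Irr.isChar hχ.1) (Irr.isChar hξ) hψ
    fun φ h2 h3 => (h1 φ h2).1 h3
  have hCK : C ≤ K := hC ▸ inf_le_left
  refine ⟨fun h3 => mem_IrrO.2 ⟨hψ, cfdot_ne_zero_of_ndot (p := p) fun e => ?_⟩, fun h3 => ?_⟩
  · have h4 : K ⊔ B ≤ inertia θ := sup_le (CF.le_inertia (Irr.mem_CF hθ.1)) hI
    rw [e, mul_zero, cast_ndot_eq_mul hCK le_sup_left (Irr.isChar hχ.1) (Irr.isChar hξ) hθ.1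
      fun φ h5 h6 => by
        simpa [cfclass_of_le_inertia h4] using Irr.mem_cfclass_of_over le_sup_left hn hχ.1 hθ.1 h5
          (mem_IrrO.1 h3).2 (cfdot_ne_zero_of_ndot h6)] at h2
    exact mul_ne_zero (ndot_ne_zero_of_mem le_sup_left hn hθ.1 h4 h3
      fun e => hU (e.trans (relIndex_dvd_card _ _))) h h2
  have h4 := mul_ne_zero ((h1 ψ hψ).2 rfl) (ndot_ne_zero_of_mem (p := p) hCB hBC hξ
    (fun b hb => (hM.cfConj_eq_iff hθ hξ h h (hBC hb) (cfConj_mem_InvIrr (hBK hb) (hBR hb) hθ)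
      (Irr.cfConj_mem (hBC hb) hξ)).1 (hI hb)) h3 fun e => hB' (e.trans (relIndex_dvd_card _ _)))
  rw [← h2, ndot_eq_sum hCK le_sup_left (Irr.isChar hχ.1) (Irr.isChar hξ), Nat.cast_sum] at h4
  obtain ⟨θ', h5, h6⟩ := Finset.exists_ne_zero_of_sum_ne_zero h4
  rw [Nat.cast_mul, mul_ne_zero_iff] at h6
  have h7 := cfdot_ne_zero_of_ndot h6.1
  obtain ⟨θ'', h8, h9⟩ := exists_inv_below le_sup_left hn (le_normalizer_sup hRK
    ((le_centralizer_iff.1 hB).trans (centralizer_le_normalizer _))) hRK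
    (coprime_card_of_isPGroup hR fun e => hU (e.trans (relIndex_dvd_card _ _))) hχ
  obtain ⟨g, h10, rfl⟩ := mem_cfclass.1
    (Irr.mem_cfclass_of_over le_sup_left hn hχ.1 h8.1 h5 h9 h7)
  obtain ⟨k, h11, b, h12, rfl⟩ := Transfer.exists_mul_of_mem_sup hBK h10
  rw [cfConj_mul, CF.cfConj_eq (Irr.mem_CF h8.1) h11] at h6 h7
  rw [hM.inj _ (cfConj_mem_InvIrr (hBK h12) (hBR h12) h8) _ hθ _ hξ h6.2 h] at h7
  exact mem_IrrO.2 ⟨hχ.1, h7⟩

theorem ow_base [hp : Fact p.Prime] (hR : IsPGroup p R) (hRK : R ≤ normalizer (K : Set X))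
    (hAK : A ≤ normalizer (K : Set X)) (hAR : A ≤ normalizer (R : Set X))
    (hC : C = K ⊓ centralizer (R : Set X)) (hCB : C ≤ B) (hBA : B ≤ A)
    (hB : B ≤ centralizer (R : Set X)) (hK : ¬ p ∣ Nat.card K) (hA : ¬ p ∣ Nat.card A)
    (hab : ⁅A, A⁆ ≤ C) {a : X} (ha : a ∈ A) (hc : ∀ t ∈ A, ∃ n : ℤ, (a ^ n)⁻¹ * t ∈ B)
    (hθ : θ ∈ InvIrr K R) (hI : A ≤ inertia θ) (hξ : ξ ∈ Irr C)
    (h : (ndot C θ ξ : ZMod p) ≠ 0) : Extends (K ⊔ A) K θ ↔ Extends A C ξ := by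
  classical
  have hB' : ¬ p ∣ Nat.card B := fun e => hA (e.trans (card_dvd_of_le hBA))
  have hBK := hBA.trans hAK
  have hU := not_dvd_card_sup hBK hK hB'
  have hCK : C ≤ K := hC ▸ inf_le_left
  have hRU : R ≤ normalizer ((K ⊔ B : Subgroup X) : Set X) :=
    le_normalizer_sup hRK ((le_centralizer_iff.1 hB).trans (centralizer_le_normalizer _))
  have hM := modCor_glauberman' (C := B) hR hRU hU (le_antisymm (le_inf le_sup_right hB)
    fun x hx => by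
      obtain ⟨k, h1, b, h2, rfl⟩ := Transfer.exists_mul_of_mem_sup hBK hx.1
      exact mul_mem (hCB (hC ▸ ⟨h1, (mul_mem_cancel_right (hB h2)).1 hx.2⟩)) h2)
  have hab1 : ⁅K ⊔ A, K ⊔ A⁆ ≤ K :=
    (commutator_sup_le_sup_commutator hAK).trans (sup_le le_rfl (hab.trans hCK))
  have hab2 : ⁅K ⊔ B, K ⊔ B⁆ ≤ K :=
    (commutator_mono (sup_le_sup_left hBA K) (sup_le_sup_left hBA K)).trans hab1
  have hab3 : ⁅B, B⁆ ≤ C := (commutator_mono hBA hBA).trans hab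
  have hAC := le_normalizer_of_comm hab (hCB.trans hBA)
  have hAB := le_normalizer_of_comm (hab.trans hCB) hBA
  have hIU : K ⊔ B ≤ inertia θ := sup_le (CF.le_inertia (Irr.mem_CF hθ.1)) (hBA.trans hI)
  have hIξ : A ≤ inertia ξ := fun b hb => ((modCor_glauberman' hR hRK hK hC).cfConj_eq_iff hθ hξ h h
    (hAC hb) (cfConj_mem_InvIrr (hAK hb) (hAR hb) hθ) (Irr.cfConj_mem (hAC hb) hξ)).1 (hI hb)
  have h1 : ∀ χ ∈ IrrO (K ⊔ B) K θ, χ ∈ InvIrr (K ⊔ B) R := fun χ hχ => by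
    obtain ⟨χ₀, h1, h2⟩ := exists_inv_above le_sup_left (sup_le le_normalizer hBK) hRU hRK
      (coprime_card_of_isPGroup hR hU) hθ
    obtain ⟨h3, h4⟩ := mem_IrrO.1 hχ
    obtain ⟨h5, h6⟩ := mem_IrrO.1 h1
    obtain ⟨l, h7, h8, -, rfl⟩ := exists_lin_mul_eq_of_abelian le_sup_left hab2 h5 h3 (by
      rw [← cfdot_res_left, ← cfdot_res_right]
      exact ((Irr.isChar h3).res le_sup_left).cfdot_ne_zero_of_common
        ((Irr.isChar h5).res le_sup_left) hθ.1 (by rwa [cfdot_res_left]) (by rwa [cfdot_res_left]))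
    refine ⟨h3, fun r hr => ?_⟩
    rw [mem_inertia, cfConj_mul_fun, h2 hr]
    congr 1
    refine mem_inertia_of (Irr.mem_CF h7) (hRU hr) fun x hx => ?_
    obtain ⟨k, h9, b, h10, rfl⟩ := Transfer.exists_mul_of_mem_sup hBK hx
    rw [show r * (k * b) * r⁻¹ = r * k * r⁻¹ * b by
      rw [mul_assoc, mul_assoc, mul_assoc, mul_assoc, hB h10 _ (inv_mem hr)],
      h8 ((hRK hr _).1 h9), h8 h9]
  have h2 : ∀ χ ∈ InvIrr (K ⊔ B) R, ∀ ψ ∈ Irr B, (ndot B χ ψ : ZMod p) ≠ 0 →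
      (χ ∈ IrrO (K ⊔ B) K θ ↔ ψ ∈ IrrO B C ξ) ∧ (a ∈ inertia χ ↔ a ∈ inertia ψ) :=
    fun χ hχ ψ hψ h2 => ⟨mem_IrrO_iff_of_glauberman hR hRK hBK hC hCB hB hK hB' hθ
      (hBA.trans hI) hξ h hχ hψ fun ψ' h3 =>
        ⟨fun h4 => hM.eq_of_ne_zero hχ h3 hψ h4 h2, fun e => e ▸ h2⟩,
      hM.cfConj_eq_iff hχ hψ h2 h2 (hAB ha) (cfConj_mem_InvIrr
        (le_normalizer_sup hAK hAB ha) (hAR ha) hχ) (Irr.cfConj_mem (hAB ha) hψ)⟩
  have h3 : (IrrO (K ⊔ B) K θ).card = (IrrO B C ξ).card := by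
    choose! f h3 h4 h5 using hM.row
    refine Finset.card_nbij f (fun χ hχ => (h2 χ (h1 χ hχ) _ (h3 χ (h1 χ hχ))
      (ne_zero_of_sign (h4 χ (h1 χ hχ)))).1.1 hχ) (fun χ hχ χ' hχ' e => hM.inj _ (h1 χ hχ) _
        (h1 χ' hχ') _ (h3 χ (h1 χ hχ)) (ne_zero_of_sign (h4 χ (h1 χ hχ)))
        (e ▸ ne_zero_of_sign (h4 χ' (h1 χ' hχ')))) fun ψ hψ => ?_
    obtain ⟨χ, h6, h7⟩ := hM.col ψ (mem_IrrO.1 hψ).1
    exact ⟨χ, (h2 χ h6 ψ (mem_IrrO.1 hψ).1 h7).1.2 hψ, (h5 χ h6 ψ (mem_IrrO.1 hψ).1 h7).symm⟩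
  have h4 : Extends (K ⊔ B) K θ ↔ Extends B C ξ := by
    rw [← (card_IrrO_of_comm le_sup_left hab2 hθ.1 hIU).2,
      ← (card_IrrO_of_comm hCB hab3 hξ (hBA.trans hIξ)).2, h3, relIndex_sup_of_le_normalizer hBK,
      ← inf_relIndex_right K, show K ⊓ B = C from le_antisymm (hC ▸ inf_le_inf_left K hB)
        (le_inf hCK hCB)]
  rw [extends_iff_of_cyclic le_sup_left (sup_le_sup_left hBA K) (le_normalizer_of_comm
    (hab1.trans le_sup_left) (sup_le_sup_left hBA K)) hθ.1 (mem_sup_right ha) fun t ht => by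
      obtain ⟨x, h5, k, h6, rfl⟩ := Transfer.exists_mul_of_mem_sup' hAK ht
      obtain ⟨n, h7⟩ := hc x h5
      exact ⟨n, mul_assoc _ x k ▸ mul_mem (mem_sup_right h7) (mem_sup_left h6)⟩,
    extends_iff_of_cyclic hCB hBA hAB hξ ha hc]
  refine ⟨fun ⟨χ, h5, h6, h7⟩ => ?_, fun ⟨ψ, h5, h6, h7⟩ => ?_⟩
  · have h8 := mem_IrrO_of_res hθ.1 h5 h6
    obtain ⟨ψ, h9, h10, -⟩ := hM.row χ (h1 χ h8)
    have h11 := h2 χ (h1 χ h8) ψ h9 (ne_zero_of_sign h10)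
    exact ⟨ψ, h9, (h4.1 ⟨χ, h5, h6⟩).res_eq hCB hab3 hξ (h11.1.1 h8), h11.2.1 h7⟩
  · obtain ⟨χ, h8, h9⟩ := hM.col ψ h5
    have h10 := h2 χ h8 ψ h5 h9
    exact ⟨χ, h8.1, (h4.2 ⟨ψ, h5, h6⟩).res_eq le_sup_left hab2 hθ.1
      (h10.1.2 (mem_IrrO_of_res hξ h5 h6)), h10.2.2 h7⟩

theorem exists_cocyclic_mod {X : Type u} [Group X] [Finite X] {S A C : Subgroup X}
    (hS : Group.IsNilpotent S) (hAS : A ≤ normalizer (S : Set X)) (hCA : C ≤ A)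
    (hC : C ≤ centralizer (S : Set X)) (hab : ⁅A, A⁆ ≤ C) (h1 : ¬ S ≤ C) :
    ∃ B, C ≤ B ∧ B ≤ A ∧ ⁅S, B⁆ < S ∧ ∃ a ∈ A, ∀ t ∈ A, ∃ n : ℤ, (a ^ n)⁻¹ * t ∈ B := by
  obtain ⟨Q, _, _, q, hq⟩ := exists_quot C
  have hA := le_normalizer_of_comm hab hCA
  have hS' : S ≤ normalizer (C : Set X) :=
    (le_centralizer_iff.1 hC).trans (centralizer_le_normalizer _)
  have h2 : IsMulCommutative ((A.subgroupOf _).map q) := ⟨⟨by
    rintro ⟨_, a, ha, rfl⟩ ⟨_, b, hb, rfl⟩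
    refine Subtype.ext (commutatorElement_eq_one_iff_mul_comm.1 ?_)
    exact (map_commutatorElement q a b).symm.trans
      ((hq _).2 (hab (commutator_mem_commutator ha hb)))⟩⟩
  have h3 := map_quot_le_normalizer q hAS
  have h4 : Group.IsNilpotent ((S.subgroupOf _).map q) :=
    have : Group.IsNilpotent (S.subgroupOf (normalizer (C : Set X))) :=
      Group.nilpotent_of_mulEquiv (subgroupOfEquivOfLe hS').symm
    Group.nilpotent_of_surjective _ (q.subgroupMap_surjective _)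
  obtain ⟨N, -, ⟨h5, h6⟩, hmax⟩ := Core.exists_maximal_ge
    (P := fun N : Subgroup Q => N < (S.subgroupOf _).map q ∧
      (A.subgroupOf _).map q ≤ normalizer (N : Set Q)) (H := ⊥)
    ⟨bot_lt_iff_ne_bot.2 fun e => h1 fun s hs => (hq ⟨s, hS' hs⟩).1
      (mem_bot.1 (e ▸ mem_map_of_mem q (mem_subgroupOf.2 hs))), le_normalizer_of_normal⟩
  have hmax' : ∀ W : Subgroup Q, N ≤ W → W ≤ (S.subgroupOf _).map q →
      (A.subgroupOf _).map q ≤ normalizer (W : Set Q) → W = N ∨ W = (S.subgroupOf _).map q :=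
    fun W h3 h4 h5 => h4.lt_or_eq.imp_left fun h6 => hmax W ⟨h6, h5⟩ h3
  obtain ⟨B, h7, h8, _, ⟨a, h9, rfl⟩, h10⟩ := exists_cocyclic_commutator_le h2 h3 h6 h5
    (commutator_le_of_maximal_invariant h4 h3 h6 h5 hmax') hmax'
  refine ⟨A ⊓ (B.comap q).map (Subgroup.subtype _), fun c hc => ⟨hCA hc, ⟨c, hA (hCA hc)⟩,
    by rw [SetLike.mem_coe, mem_comap, (hq _).2 hc]; exact one_mem _, rfl⟩, inf_le_left,
    (commutator_le_of_le_normalizer (inf_le_left.trans hAS)).lt_of_ne fun e => h5.not_ge ?_,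
    a, h9, fun t ht => ?_⟩
  · have : ⁅S, A ⊓ (B.comap q).map (Subgroup.subtype _)⁆ ≤
        (N.comap q).map (Subgroup.subtype _) := commutator_le.2 (by
      rintro s hs _ ⟨-, b, hb, rfl⟩
      exact ⟨⁅(⟨s, hS' hs⟩ : normalizer (C : Set X)), b⁆, by
        rw [SetLike.mem_coe, mem_comap, map_commutatorElement]
        exact h8 (commutator_mem_commutator (mem_map_of_mem q (mem_subgroupOf.2 hs)) hb), rfl⟩)
    rintro _ ⟨s, hs, rfl⟩
    obtain ⟨s', h11, h12⟩ := this (e.ge hs)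
    exact (Subtype.ext h12 : s' = s) ▸ h11
  · have h11 : q ⟨t, hA ht⟩ ∈ B ⊔ zpowers (q a) := h10 ▸ mem_map_of_mem q (mem_subgroupOf.2 ht)
    obtain ⟨_, ⟨n, rfl⟩, b, h12, h13⟩ := Transfer.exists_mul_of_mem_sup' (zpowers_le.2
      (mem_normalizer_fintype fun b hb => by
        have := congrArg Subtype.val (h2.is_comm.comm ⟨q a, mem_map_of_mem q h9⟩ ⟨b, h7 hb⟩)
        rwa [show q a * b = b * q a from this, mul_inv_cancel_right])) h11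
    refine ⟨n, A.mul_mem (A.inv_mem (A.zpow_mem h9 n)) ht,
      (a ^ n)⁻¹ * ⟨t, hA ht⟩, ?_, rfl⟩
    rw [SetLike.mem_coe, mem_comap, map_mul, h13, map_inv, map_zpow, inv_mul_cancel_left]
    exact h12

/-- Okuyama-Wajima. -/
theorem extends_iff_of_glauberman {X : Type u} [Group X] [Finite X] [hp : Fact p.Prime]
    {S K A C : Subgroup X} {θ ξ : X → ℂ} (hS : IsPGroup p S) (hSK : S ≤ normalizer (K : Set X))
    (hAK : A ≤ normalizer (K : Set X)) (hAS : A ≤ normalizer (S : Set X))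
    (hC : C = K ⊓ centralizer (S : Set X)) (hCA : C ≤ A) (hK : ¬ p ∣ Nat.card K)
    (hA : ¬ p ∣ Nat.card A) (hab : ⁅A, A⁆ ≤ C) (hθ : θ ∈ InvIrr K S) (hI : A ≤ inertia θ)
    (hξ : ξ ∈ Irr C) (h : (ndot C θ ξ : ZMod p) ≠ 0) : Extends (K ⊔ A) K θ ↔ Extends A C ξ := by
  induction S using WellFoundedLT.induction generalizing K A C θ ξ with | ind S ih
  have hCK : C ≤ K := hC ▸ inf_le_left
  have hCS : C ≤ centralizer (S : Set X) := hC ▸ inf_le_right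
  rcases eq_or_ne S ⊥ with rfl | h1
  · have : K = C := by simp [hC]
    subst this
    rw [Irr.eq_of_cfdot_ne_zero hθ.1 hξ (cfdot_ne_zero_of_ndot h), sup_eq_right.2 hCA]
  obtain ⟨B, h2, h3, h4, a, h5, h6⟩ := exists_cocyclic_mod hS.isNilpotent hAS hCA hCS hab
    fun e => h1 (eq_bot_iff.2 fun s hs => Subgroup.disjoint_def.1
      (disjoint_of_coprime_natCard (coprime_card_of_isPGroup hS hK)) hs (hCK (e hs)))
  have hAB := le_normalizer_of_comm (hab.trans h2) h3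
  have hA0 : A ≤ normalizer ((⁅S, B⁆ : Subgroup X) : Set X) := le_normalizer_commutator hAS hAB
  have hS0 : S ≤ normalizer ((⁅S, B⁆ : Subgroup X) : Set X) := normalizer_commutator_ge_left _ _
  set K₀ := K ⊓ centralizer ((⁅S, B⁆ : Subgroup X) : Set X) with hK₀
  have hCK₀ : C ≤ K₀ := le_inf hCK (hCS.trans (centralizer_le (SetLike.coe_subset_coe.2 h4.le)))
  have hAK₀ : A ≤ normalizer (K₀ : Set X) := le_normalizer_inf hAK (le_normalizer_centralizer hA0)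
  have hSK₀ : S ≤ normalizer (K₀ : Set X) := le_normalizer_inf hSK (le_normalizer_centralizer hS0)
  have hK₀' : ¬ p ∣ Nat.card K₀ := fun e => hK (e.trans (card_dvd_of_le inf_le_left))
  have hM := modCor_glauberman' (hS.to_le h4.le) (h4.le.trans hSK) hK hK₀
  have hθ' : θ ∈ InvIrr K ⁅S, B⁆ := ⟨hθ.1, h4.le.trans hθ.2⟩
  obtain ⟨θ₀, h7, h8, h9⟩ := hM.row θ hθ'
  have h10 := ne_zero_of_sign h8
  have h11 : ∀ g ∈ normalizer (K : Set X), g ∈ normalizer ((⁅S, B⁆ : Subgroup X) : Set X) →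
      g ∈ normalizer (K₀ : Set X) → g ∈ inertia θ → g ∈ inertia θ₀ := fun g e1 e2 e3 e4 =>
    (hM.cfConj_eq_iff hθ' h7 h10 h10 e3 (cfConj_mem_InvIrr e1 e2 hθ') (Irr.cfConj_mem e3 h7)).1 e4
  have h12 : A ≤ inertia θ₀ := fun g hg => h11 g (hAK hg) (hA0 hg) (hAK₀ hg) (hI hg)
  have h13 := ih _ h4 (hS.to_le h4.le) (h4.le.trans hSK) (A := K₀ ⊔ A)
    (sup_le (inf_le_left.trans le_normalizer) hAK)
    (sup_le (inf_le_right.trans (centralizer_le_normalizer _)) hA0) hK₀ le_sup_left hK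
    (not_dvd_card_sup hAK₀ hK₀' hA) ((commutator_sup_le_sup_commutator hAK₀).trans
      (sup_le le_rfl (hab.trans hCK₀))) hθ' (sup_le (inf_le_left.trans
      (CF.le_inertia (Irr.mem_CF hθ.1))) hI) h7 h10
  rw [← sup_assoc, sup_eq_left.2 (inf_le_left : K₀ ≤ K)] at h13
  rw [h13]
  refine ow_base (R := S ⊓ centralizer (B : Set X)) (hS.to_le inf_le_left) (inf_le_left.trans hSK₀)
    hAK₀ (le_normalizer_inf hAS (le_normalizer_centralizer hAB)) (le_antisymm (le_inf hCK₀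
      (hCS.trans (centralizer_le (SetLike.coe_subset_coe.2 inf_le_left)))) fun x hx => ?_) h2 h3
    (le_centralizer_iff.1 inf_le_right) hK₀' hA hab h5 h6 ⟨h7, fun g hg =>
      h11 g (hSK hg.1) (hS0 hg.1) (hSK₀ hg.1) (hθ.2 hg.1)⟩ h12 hξ fun e => h ?_
  · refine hC ▸ ⟨hx.1.1, fun s hs => ?_⟩
    obtain ⟨n, h14, c, h15, rfl⟩ := exists_commutator_mul_centralizer (h3.trans hAS)
      ((coprime_card_of_isPGroup hS hA).symm.coprime_dvd_left (card_dvd_of_le h3))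
      (Or.inr (have := hS.isNilpotent; inferInstance)) hs
    rw [mul_assoc, hx.2 c h15, ← mul_assoc, hx.1.2 n h14, mul_assoc]
  · rw [cast_ndot_eq_mul hCK₀ inf_le_left (Irr.isChar hθ.1) (Irr.isChar hξ) h7 h9, e, mul_zero]

end Cfsg.Lib.Rel
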