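import Cfsg.Agent.Lib.Rel.OW

/-!
# Counting characters of `p'`-degree over a given character
-/

set_option autoImplicit false
set_option linter.unusedSectionVars false

namespace Cfsg.Lib.Rel

open Cfsg.Lib.PF Cfsg.Lib.Char Cfsg.Lib.Coprime Cfsg.Lib.Transfer Subgroup
open scoped ComplexConjugate commutatorElement

universe u

theorem card_eq_of_rel {α β : Type u} {ι : Type*} {A : Finset α} {B : Finset β} {I : Set ι}
    (r : ι → ι → Prop) (R : α → ι → Prop) (R' : β → ι → Prop) [∀ i, DecidablePred (R · i)]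
    [∀ i, DecidablePred (R' · i)] (h1 : ∀ a ∈ A, ∃ i ∈ I, R a i) (h2 : ∀ b ∈ B, ∃ i ∈ I, R' b i)
    (h3 : ∀ a ∈ A, ∀ i ∈ I, R a i → ∀ j ∈ I, R a j ↔ r i j)
    (h4 : ∀ b ∈ B, ∀ i ∈ I, R' b i → ∀ j ∈ I, R' b j ↔ r i j) (h5 : ∀ i, r i i)
    (h : ∀ i ∈ I, (A.filter (R · i)).card = (B.filter (R' · i)).card) : A.card = B.card := by
  classical
  have key : ∀ {γ : Type u} {C : Finset γ} {R : γ → ι → Prop} [∀ i, DecidablePred (R · i)],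
      (∀ a ∈ C, ∀ i ∈ I, R a i → ∀ j ∈ I, R a j ↔ r i j) → ∀ i ∈ I,
      C.filter (fun a => {j | j ∈ I ∧ R a j} = {j | j ∈ I ∧ r i j}) = C.filter (R · i) :=
    fun h3 i hi => Finset.filter_congr fun a ha => ⟨fun e => (e.ge ⟨hi, h5 i⟩).2,
      fun e => Set.ext fun j => and_congr_right (h3 a ha i hi e j)⟩
  have e1 := Finset.card_eq_sum_card_fiberwise (s := A) (f := fun a => {j | j ∈ I ∧ R a j})
    (t := A.image (fun a => {j | j ∈ I ∧ R a j}) ∪ B.image fun a => {j | j ∈ I ∧ R' a j})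
    fun a ha => Finset.mem_coe.2 (Finset.mem_union_left _ (Finset.mem_image_of_mem _ ha))
  have e2 := Finset.card_eq_sum_card_fiberwise (s := B) (f := fun a => {j | j ∈ I ∧ R' a j})
    (t := A.image (fun a => {j | j ∈ I ∧ R a j}) ∪ B.image fun a => {j | j ∈ I ∧ R' a j})
    fun a ha => Finset.mem_coe.2 (Finset.mem_union_right _ (Finset.mem_image_of_mem _ ha))
  rw [e1, e2]
  refine Finset.sum_congr rfl fun s hs => ?_
  obtain ⟨i, hi, rfl⟩ : ∃ i ∈ I, s = {j | j ∈ I ∧ r i j} := by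
    rcases Finset.mem_union.1 hs with hs | hs <;> obtain ⟨a, ha, rfl⟩ := Finset.mem_image.1 hs
    · obtain ⟨i, hi, e⟩ := h1 a ha
      exact ⟨i, hi, Set.ext fun j => and_congr_right (h3 a ha i hi e j)⟩
    · obtain ⟨i, hi, e⟩ := h2 a ha
      exact ⟨i, hi, Set.ext fun j => and_congr_right (h4 a ha i hi e j)⟩
  rw [key h3 i hi, key h4 i hi, h i hi]

variable {X : Type*} [Group X] [Finite X]
variable {p : ℕ} {G K C U V T N L Q D S A H W : Subgroup X} {θ θ' χ ψ φ ξ η ν : X → ℂ}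

open Classical in
/-- The irreducible characters of `U` of `p'`-degree lying over `ν`. -/
noncomputable def IrrP (p : ℕ) (U L : Subgroup X) (ν : X → ℂ) : Finset (X → ℂ) :=
  (IrrO U L ν).filter fun χ => ¬ p ∣ deg χ

theorem mem_IrrP : χ ∈ IrrP p U L ν ↔ χ ∈ IrrO U L ν ∧ ¬ p ∣ deg χ := by
  classical exact Finset.mem_filter

theorem relIndex_inertia_dvd_deg (hKU : K ≤ U) (hn : U ≤ normalizer (K : Set X)) (hθ : θ ∈ Irr K)
    (hχ : χ ∈ IrrO U K θ) : (inertia θ).relIndex U ∣ deg χ := by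
  obtain ⟨h1, h2⟩ := mem_IrrO.1 hχ
  have h3 := Irr.apply_one_of_over hKU hn h1 hθ h2
  rw [← ndot_cast hKU (Irr.isChar h1) (Irr.isChar hθ), Irr.apply_one hθ] at h3
  rw [deg_of_eq (n := ndot K χ θ * (inertia θ).relIndex U * deg θ) (by exact_mod_cast h3)]
  exact (dvd_mul_left _ _).mul_right _

variable [hp : Fact p.Prime]

theorem exists_inv_under (hKU : K ≤ U) (hn : U ≤ normalizer (K : Set X)) (hS : IsPGroup p S)
    (hSU : S ≤ U) (hχ : χ ∈ Irr U) (h : ¬ p ∣ deg χ) : ∃ θ ∈ InvIrr K S, cfdot K χ θ ≠ 0 := by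
  obtain ⟨θ, h1, h2⟩ := Irr.exists_res_constituent hKU hχ
  obtain ⟨g, h3, h4⟩ := exists_conj_le_of_not_dvd_relIndex' (T := inertia θ)
    (fun e => h (e.trans (relIndex_inertia_dvd_deg hKU hn h1 (mem_IrrO.2 ⟨hχ, h2⟩)))) hS hSU
  exact ⟨cfConj g θ, ⟨Irr.cfConj_mem (hn h3) h1, fun s hs =>
    mem_inertia_cfConj.2 (conj_le_iff.1 h4 s hs)⟩,
    by rwa [CF.cfdot_eq_of_mem_cfclass' hn (Irr.mem_CF hχ) h3]⟩

theorem over_iff_mem_cfclass (hKU : K ≤ U) (hn : U ≤ normalizer (K : Set X)) (hS : IsPGroup p S)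
    (hSU : S ≤ U) (hi : ¬ p ∣ S.relIndex U) (hθ : θ ∈ InvIrr K S) (hθ' : θ' ∈ InvIrr K S)
    (hχ : χ ∈ IrrO U K θ) :
    cfdot K χ θ' ≠ 0 ↔ θ' ∈ cfclass (U ⊓ normalizer (S : Set X)) θ := by
  obtain ⟨h1, h2⟩ := mem_IrrO.1 hχ
  refine ⟨fun h => ?_, fun h => ?_⟩
  · obtain ⟨u, h3, rfl⟩ := mem_cfclass.1 (Irr.mem_cfclass_of_over hKU hn h1 hθ.1 hθ'.1 h2 h)
    obtain ⟨t, h4, h5⟩ := exists_conj_le_of_not_dvd_relIndex (H := U ⊓ inertia θ) hS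
      (fun e => hi (e.trans (Dvd.intro _
        (relIndex_mul_relIndex S _ U (le_inf hSU hθ.2) inf_le_left))))
      (isPGroup_conj hS u) (conj_le_iff.2 fun s hs => ⟨U.mul_mem (U.mul_mem h3 (hSU hs)) (U.inv_mem h3),
        mem_inertia_cfConj.1 (hθ'.2 hs)⟩)
    rw [conj_conj] at h5
    have := cfConj_mem_cfclass (K := U ⊓ normalizer (S : Set X))
      ⟨mul_mem h4.1 h3, mem_normalizer_of_conj_le h5⟩ θ
    rwa [cfConj_mul, h4.2] at this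
  · obtain ⟨u, h3, rfl⟩ := mem_cfclass.1 h
    rwa [CF.cfdot_eq_of_mem_cfclass' hn (Irr.mem_CF h1) h3.1]

/-- The data of one side of a double count over a normal subgroup `K`. -/
structure Side (p : ℕ) (U K L S N : Subgroup X) (ν : X → ℂ) : Prop where
  le : L ≤ K
  le' : K ≤ U
  nK : U ≤ normalizer (K : Set X)
  nL : U ≤ normalizer (L : Set X)
  inv : U ≤ inertia ν
  sle : S ≤ U
  syl : ¬ p ∣ S.relIndex U
  nml : U ⊓ normalizer (S : Set X) = N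

theorem card_IrrP_eq_of_rel {U' K' : Subgroup X} (hS : IsPGroup p S) (hν : ν ∈ Irr L)
    (h : Side p U K L S N ν) (h' : Side p U' K' L S N ν) {I : Set ((X → ℂ) × (X → ℂ))}
    (h1 : ∀ i ∈ I, i.1 ∈ InvO K L ν S ∧ i.2 ∈ InvO K' L ν S)
    (h2 : ∀ θ ∈ InvO K L ν S, ∃ i ∈ I, i.1 = θ) (h3 : ∀ θ ∈ InvO K' L ν S, ∃ i ∈ I, i.2 = θ)
    (h4 : ∀ i ∈ I, ∀ j ∈ I, j.2 ∈ cfclass N i.2 ↔ j.1 ∈ cfclass N i.1)
    (h5 : ∀ i ∈ I, (IrrP p U K i.1).card = (IrrP p U' K' i.2).card) :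
    (IrrP p U L ν).card = (IrrP p U' L ν).card := by
  classical
  have k1 : ∀ {U K : Subgroup X}, Side p U K L S N ν → ∀ χ ∈ IrrP p U L ν,
      ∃ θ ∈ InvO K L ν S, cfdot K χ θ ≠ 0 := fun h χ hχ => by
    obtain ⟨h6, h7⟩ := mem_IrrP.1 hχ
    obtain ⟨θ, h8, h9⟩ := exists_inv_under h.le' h.nK hS h.sle (mem_IrrO.1 h6).1 h7
    exact ⟨θ, ⟨mem_IrrO.2 ⟨h8.1, over_of_cfdot_ne_zero (h.le.trans h.le') h.nL h.inv hν h6 h.le
      h.le' h8.1 h9⟩, h8.2⟩, h9⟩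
  have k2 : ∀ {U K : Subgroup X}, Side p U K L S N ν → ∀ χ ∈ IrrP p U L ν,
      ∀ θ ∈ InvO K L ν S, cfdot K χ θ ≠ 0 → ∀ θ' ∈ InvO K L ν S,
      cfdot K χ θ' ≠ 0 ↔ θ' ∈ cfclass N θ := fun h χ hχ θ h6 h7 θ' h8 => h.nml ▸
    over_iff_mem_cfclass h.le' h.nK hS h.sle h.syl ⟨(mem_IrrO.1 h6.1).1, h6.2⟩
      ⟨(mem_IrrO.1 h8.1).1, h8.2⟩ (mem_IrrO.2 ⟨(mem_IrrO.1 (mem_IrrP.1 hχ).1).1, h7⟩)
  have k3 : ∀ {U K : Subgroup X}, Side p U K L S N ν → ∀ θ ∈ InvO K L ν S,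
      (IrrP p U L ν).filter (fun χ => cfdot K χ θ ≠ 0) = IrrP p U K θ := fun h θ h6 => by
    ext χ
    simp only [Finset.mem_filter, mem_IrrP, mem_IrrO]
    exact ⟨fun h => ⟨⟨h.1.1.1, h.2⟩, h.1.2⟩, fun h7 => ⟨⟨⟨h7.1.1, (Irr.isChar h7.1.1).cfdot_ne_zero_trans
      h.le h.le' (mem_IrrO.1 h6.1).1 (Irr.isChar hν) h7.1.2 (mem_IrrO.1 h6.1).2⟩, h7.2⟩, h7.1.2⟩⟩
  refine card_eq_of_rel (I := I) (fun i j => j.1 ∈ cfclass N i.1) (fun χ i => cfdot K χ i.1 ≠ 0)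
    (fun χ i => cfdot K' χ i.2 ≠ 0) (fun χ hχ => ?_) (fun χ hχ => ?_)
    (fun χ hχ i hi e j hj => k2 h χ hχ _ (h1 i hi).1 e _ (h1 j hj).1)
    (fun χ hχ i hi e j hj => (k2 h' χ hχ _ (h1 i hi).2 e _ (h1 j hj).2).trans (h4 i hi j hj))
    (fun i => self_mem_cfclass _ _) fun i hi => by
      rw [k3 h _ (h1 i hi).1, k3 h' _ (h1 i hi).2, h5 i hi]
  · obtain ⟨θ, h6, h7⟩ := k1 h χ hχ
    obtain ⟨i, h8, rfl⟩ := h2 θ h6
    exact ⟨i, h8, h7⟩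
  · obtain ⟨θ, h6, h7⟩ := k1 h' χ hχ
    obtain ⟨i, h8, rfl⟩ := h3 θ h6
    exact ⟨i, h8, h7⟩

theorem card_IrrP_inertia (hLU : L ≤ U) (hn : U ≤ normalizer (L : Set X)) (hν : ν ∈ Irr L)
    (h : ¬ p ∣ (inertia ν).relIndex U) :
    (IrrP p U L ν).card = (IrrP p (U ⊓ inertia ν) L ν).card := by
  have h1 := bijOn_ind_InvO (S := ⊥) hLU hn bot_le bot_le ⟨hν, bot_le⟩
  have h2 : ∀ ψ ∈ IrrO (U ⊓ inertia ν) L ν, p ∣ deg (ind (U ⊓ inertia ν) U ψ) ↔ p ∣ deg ψ :=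
    fun ψ hψ => by
      rw [(Irr.isChar (mem_IrrO.1 hψ).1).deg_ind inf_le_left, inf_relIndex_left, hp.out.dvd_mul,
        or_iff_right h]
  refine (Finset.card_nbij (ind (U ⊓ inertia ν) U) (fun ψ hψ => ?_) (fun ψ hψ φ hφ e =>
    h1.injOn ⟨(mem_IrrP.1 hψ).1, bot_le⟩ ⟨(mem_IrrP.1 hφ).1, bot_le⟩ e) fun χ hχ => ?_).symm
  · exact mem_IrrP.2 ⟨(h1.mapsTo ⟨(mem_IrrP.1 hψ).1, bot_le⟩).1,
      (h2 ψ (mem_IrrP.1 hψ).1).not.2 (mem_IrrP.1 hψ).2⟩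
  · obtain ⟨ψ, h3, rfl⟩ := h1.surjOn ⟨(mem_IrrP.1 hχ).1, bot_le⟩
    exact ⟨ψ, mem_IrrP.2 ⟨h3.1, (h2 ψ h3.1).not.1 (mem_IrrP.1 hχ).2⟩, rfl⟩

omit hp in
theorem relIndex_dvd_of_le_normalizer (hA : A ≤ Q) (hK : K ≤ Q)
    (hn : Q ≤ normalizer (K : Set X)) : K.relIndex A ∣ K.relIndex Q := by
  rw [← relIndex_sup_of_le_normalizer (hA.trans hn)]
  exact Dvd.intro _ (relIndex_mul_relIndex K _ Q le_sup_left (sup_le hK hA))

omit hp in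
theorem le_of_coprime_relIndex (hA : A ≤ Q) (hK : K ≤ Q) (hn : Q ≤ normalizer (K : Set X))
    (h : (Nat.card A).Coprime (K.relIndex Q)) : A ≤ K :=
  relIndex_eq_one.1 (Nat.eq_one_of_dvd_coprimes h (relIndex_dvd_card _ _)
    (relIndex_dvd_of_le_normalizer hA hK hn))

theorem exists_relIndex_sup_eq_pow (hS : IsPGroup p S) (hn : S ≤ normalizer (K : Set X)) :
    ∃ k, K.relIndex (K ⊔ S) = p ^ k := by
  obtain ⟨k, hk⟩ := IsPGroup.iff_card.1 hS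
  obtain ⟨j, -, h⟩ := (Nat.dvd_prime_pow hp.out).1 (hk ▸ relIndex_dvd_card K S)
  exact ⟨j, by rw [relIndex_sup_of_le_normalizer hn, h]⟩

omit hp in
theorem res_eq_of_ext (hKQ : K ≤ Q) (hn : Q ≤ normalizer (K : Set X)) (hθ : θ ∈ Irr K)
    (hη : η ∈ Irr Q) (hψ : ψ ∈ Irr Q) (h1 : res K η = θ) (h2 : res K ψ = θ)
    (hD : D ≤ K ⊔ ⁅Q, Q⁆) : res D ψ = res D η := by
  obtain ⟨β, h3, h4, rfl⟩ := exists_mul_ext hKQ le_rfl hn (Irr.isChar hη) (h1 ▸ hθ) hψ (by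
    rw [← cfdot_res_right, h1, cfdot_of_res hθ h2]; exact one_ne_zero)
  have h5 : β 1 = 1 := by
    have := congrFun (h2.trans h1.symm) 1
    rwa [res_one_apply, res_one_apply, Pi.mul_apply,
      mul_eq_right₀ (Irr.apply_one_ne_zero hη)] at this
  exact res_congr fun x hx => by
    rw [Pi.mul_apply, cfker_apply (sup_le h4 ((Irr.isChar h3).commutator_le_cfker h5) (hD hx)), h5,
      one_mul]

theorem exists_ext_under (hKQ : K ≤ Q) (hQG : Q ≤ G) (hK : G ≤ normalizer (K : Set X))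
    (hQ : G ≤ normalizer (Q : Set X)) {k : ℕ} (hk : K.relIndex Q = p ^ k) (hθ : θ ∈ Irr K)
    (hχ : χ ∈ IrrP p G K θ) : ∃ η ∈ Irr Q, res K η = θ ∧ cfdot Q χ η ≠ 0 := by
  obtain ⟨h1, h2⟩ := mem_IrrP.1 hχ
  obtain ⟨η, h3, h4, h5⟩ := exists_Irr_between hKQ hQG (Irr.mem_CF (mem_IrrO.1 h1).1)
    (mem_IrrO.1 h1).2
  obtain ⟨a, -, h6⟩ := exists_deg_eq_mul hQG hQ h3 (mem_IrrO.2 ⟨(mem_IrrO.1 h1).1, h4⟩)
  obtain ⟨b, h7, h8⟩ := exists_deg_eq_mul hKQ (hQG.trans hK) hθ (mem_IrrO.2 ⟨h3, h5⟩)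
  obtain ⟨j, -, rfl⟩ := (Nat.dvd_prime_pow hp.out).1 (hk ▸ h7)
  refine ⟨η, h3, res_eq_of_deg hKQ hθ (mem_IrrO.2 ⟨h3, h5⟩) ?_, h4⟩
  rcases j with _ | j
  · simp [h8]
  · exact absurd (h6 ▸ h8 ▸ ((dvd_pow_self p j.succ_ne_zero).mul_right _).mul_left _) h2

theorem exists_IrrP_eq {X : Type u} [Group X] [Finite X] {G K Q D : Subgroup X} {θ : X → ℂ}
    (hKD : K ≤ D) (hDQ : D ≤ Q) (hQG : Q ≤ G) (hK : G ≤ normalizer (K : Set X))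
    (hQ : G ≤ normalizer (Q : Set X)) (hD : G ≤ normalizer (D : Set X)) {k : ℕ}
    (hk : K.relIndex Q = p ^ k) (hi : ¬ p ∣ Q.relIndex G) (h1 : ⁅Q, Q⁆ ≤ D) (h2 : D ≤ K ⊔ ⁅Q, Q⁆)
    (hθ : θ ∈ Irr K) (hI : G ≤ inertia θ) (hd : ¬ p ∣ deg θ) (h : Extends Q K θ) :
    ∃ η ∈ Irr Q, res K η = θ ∧ G ≤ inertia η ∧ IrrP p G K θ = IrrO G D (res D η) := by
  obtain ⟨η₀, h3, h4⟩ := h
  have hKQ := hKD.trans hDQ
  have h5 := res_mem_Irr_of_res hKD hDQ (Irr.isChar h3) (h4 ▸ hθ)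
  obtain ⟨η, h6, h7⟩ := exists_inv_above_of_index hDQ hQG hQ hD (θ := res D η₀)
    (((Nat.Prime.coprime_iff_not_dvd hp.out).2 hi).symm.pow_right k |>.coprime_dvd_right
      (hk ▸ relIndex_dvd_of_le_left Q hKD)) ⟨h5, fun g hg => by
    rw [mem_inertia, cfConj_res (hD hg)]
    exact res_eq_of_ext hKQ (hQG.trans hK) hθ h3 (Irr.cfConj_mem (hQ hg) h3) h4
      (by rw [← cfConj_res (hK hg), h4, hI hg]) h2⟩
  have h8 : Extends Q D (res D η₀) := ⟨η₀, h3, rfl⟩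
  have h9 := h8.res_eq hDQ h1 h5 h6
  refine ⟨η, (mem_IrrO.1 h6).1, by rw [← res_res hKD, h9, res_res hKD, h4], h7, ?_⟩
  rw [h9]
  ext χ
  refine ⟨fun hχ => ?_, fun hχ => ?_⟩
  · obtain ⟨ψ, h10, h11, h12⟩ := exists_ext_under hKQ hQG hK hQ hk hθ hχ
    have h13 := (mem_IrrO.1 (mem_IrrP.1 hχ).1).1
    exact mem_IrrO.2 ⟨h13, (Irr.isChar h13).cfdot_ne_zero_trans hDQ hQG h10 (Irr.isChar h5) h12
      (mem_IrrO.1 (mem_IrrO_of_res h5 h10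
        (res_eq_of_ext hKQ (hQG.trans hK) hθ h3 h10 h4 h11 h2))).2⟩
  · obtain ⟨h10, h11⟩ := mem_IrrO.1 hχ
    obtain ⟨ψ, h12, h13, h14⟩ := exists_Irr_between hDQ hQG (Irr.mem_CF h10) h11
    obtain ⟨a, h15, h16⟩ := exists_deg_eq_mul hQG hQ h12 (mem_IrrO.2 ⟨h10, h13⟩)
    refine mem_IrrP.2 ⟨mem_IrrO.2 ⟨h10, (Irr.isChar h10).cfdot_ne_zero_trans hKD (hDQ.trans hQG) h5
      (Irr.isChar hθ) h11 (mem_IrrO.1 (mem_IrrO_of_res hθ h5 (by rw [res_res hKD, h4]))).2⟩, ?_⟩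
    rw [h16, ← deg_res D ψ, h8.res_eq hDQ h1 h5 (mem_IrrO.2 ⟨h12, h14⟩), deg_res, ← deg_res K, h4,
      hp.out.dvd_mul]
    exact fun e => e.elim (fun e => hi (e.trans h15)) hd

omit hp in
theorem cfdot_of_central (hLK : L ≤ K) (hc : ∀ z ∈ L, ∀ u ∈ K, u * z = z * u) (hν : ν ∈ Irr L)
    (hθ : θ ∈ IrrO K L ν) : cfdot L θ ν = deg θ := by
  rw [← Irr.apply_one (mem_IrrO.1 hθ).1, ← mul_one (θ 1), ← Irr.cfdot_self hν, ← cfdot_smul_left]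
  exact cfdot_congr (fun z hz => by
    rw [Pi.smul_apply, smul_eq_mul, mul_comm, ← apply_mul_of_central hLK hc hν hθ hz, mul_one])
    fun _ _ => rfl

theorem extends_iff_of_central (hLK : L ≤ K) (hc : ∀ z ∈ L, ∀ u ∈ K ⊔ S, u * z = z * u)
    (hS : IsPGroup p S) (hn : S ≤ normalizer (K : Set X)) (hν : ν ∈ Irr L) (hθ : θ ∈ IrrO K L ν)
    (hI : S ≤ inertia θ) (hi : ¬ p ∣ L.relIndex K) :
    ¬ p ∣ deg θ ∧ (Extends (K ⊔ S) K θ ↔ Extends (L ⊔ S) L ν) := by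
  have h0 := (mem_IrrO.1 hθ).1
  have h1 : K ⊔ S ≤ normalizer (L : Set X) := fun u hu => mem_normalizer_fintype fun z hz => by
    rwa [hc z hz u hu, mul_inv_cancel_right]
  have h2 : L ⊔ S ≤ K ⊔ S := sup_le_sup_right hLK S
  have h3 := cfdot_of_central hLK (fun z hz u hu => hc z hz u (mem_sup_left hu)) hν hθ
  have h4 : ¬ p ∣ deg θ := by
    obtain ⟨k, h4, h5⟩ := exists_deg_eq_mul hLK (le_sup_left.trans h1) hν hθ
    rw [h5, deg_of_eq (χ := ν) (n := 1) (by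
      rw [Irr.apply_one_of_comm hν fun a ha b hb => hc b hb a (mem_sup_left (hLK ha)),
        Nat.cast_one]), mul_one]
    exact fun e => hi (e.trans h4)
  obtain ⟨k, hk⟩ := exists_relIndex_sup_eq_pow hS (le_sup_right.trans h1)
  refine ⟨h4, fun ⟨η, h5, h6⟩ => extends_of_not_dvd le_sup_left (h2.trans h1) hν
    (fun u hu => mem_inertia_of (Irr.mem_CF hν) (h1 (h2 hu)) fun z hz => by
      rw [hc z hz u (h2 hu), mul_inv_cancel_right]) hk ((Irr.isChar h5).res h2) ?_,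
    fun ⟨κ, h5, h6⟩ => ?_⟩
  · rwa [ndot_of_eq (n := deg θ) (by
      rw [← cfdot_res_left, res_res le_sup_left, ← res_res hLK, h6, cfdot_res_left, h3])]
  obtain ⟨j, hj⟩ := exists_relIndex_sup_eq_pow hS hn
  refine extends_of_not_dvd le_sup_left (sup_le le_normalizer hn) h0
    (sup_le (CF.le_inertia (Irr.mem_CF h0)) hI) hj ((Irr.isChar h5).ind h2) ?_
  have h7 : (L ⊔ S) ⊓ K = L := le_antisymm (relIndex_eq_one.1 (Nat.eq_one_of_dvd_coprimes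
    (((Nat.Prime.coprime_iff_not_dvd hp.out).2 hi).pow_left k) (hk ▸ Dvd.intro _
      (relIndex_mul_relIndex L _ _ (le_inf le_sup_left hLK) inf_le_left)) (Dvd.intro _
      (relIndex_mul_relIndex L _ _ (le_inf le_sup_left hLK) inf_le_right)))) (le_inf le_sup_left hLK)
  rwa [ndot_of_eq (n := deg θ) (by
    rw [← cfdot_res_left, res_ind_of_mul h2 le_sup_left (fun u hu => by
      obtain ⟨s, h8, k, h9, rfl⟩ := exists_mul_of_mem_sup' hn hu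
      exact ⟨s, mem_sup_right h8, k, h9, rfl⟩) (Irr.mem_CF h5), h7,
      cfdot_ind_left hLK _ (Irr.mem_CF h0), ← cfdot_res_left, h6, cfdot_symm_nat h3])]

omit hp in
theorem extends_res_iff (hDQ : D ≤ Q) (hDU : D ≤ U) (hn : U ≤ normalizer (Q : Set X))
    (hη : η ∈ Irr Q) (hI : U ≤ inertia η) (hA : A ≤ U) (hm : ∀ u ∈ U, ∃ a ∈ A, ∃ q ∈ Q, u = a * q)
    (hC : A ⊓ Q = C) (hCD : C ≤ D) (h : res C η ∈ Irr C) :
    Extends U D (res D η) ↔ Extends A C (res C η) := by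
  have hCA : C ≤ A := hC ▸ inf_le_left
  refine ⟨fun ⟨χ, h1, h2⟩ => ?_, fun h1 => ?_⟩
  · have h3 : res C χ = res C η := by rw [← res_res hCD, h2, res_res hCD]
    exact ⟨_, res_mem_Irr_of_res hCA hA (Irr.isChar h1) (h3 ▸ h), by rw [res_res hCA, h3]⟩
  have h2 : C ≤ U ⊓ Q := le_inf (hCD.trans hDU) (hCD.trans hDQ)
  have h3 : A ⊓ (U ⊓ Q) = C := by rw [← inf_assoc, inf_eq_left.2 hA, hC]
  have h4 := le_normalizer_inf le_normalizer hn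
  obtain ⟨χ, h5, h6⟩ := Extends.of_inf inf_le_left h4 hA (fun u hu => by
    obtain ⟨a, h5, q, h6, rfl⟩ := hm u hu
    exact ⟨a, h5, q, ⟨(mul_mem_cancel_left (hA h5)).1 hu, h6⟩, rfl⟩)
    (res_mem_Irr_of_res h2 inf_le_right (Irr.isChar hη) h)
    (fun u hu => by rw [mem_inertia, cfConj_res (h4 hu), hI hu]) (by rwa [h3, res_res h2])
    (by rwa [h3, res_res h2])
  exact ⟨χ, h5, by rw [← res_res (le_inf hDU hDQ), h6, res_res (le_inf hDU hDQ)]⟩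

omit hp in
theorem cfdot_eq_of_central (hH : H ≤ V) (hm : ∀ v ∈ V, ∃ z ∈ L, ∃ h ∈ H, v = z * h)
    (hν : ν ∈ Irr L) (h1 : ν 1 = 1) (h2 : ∀ z ∈ L, ∀ x, θ (z * x) = ν z * θ x)
    (h3 : ∀ z ∈ L, ∀ x, ξ (z * x) = ν z * ξ x) : cfdot V θ ξ = cfdot H θ ξ :=
  av_eq_of_mul hH hm fun z hz x _ => by
    rw [h2 z hz, h3 z hz, map_mul, mul_mul_mul_comm,
      (Irr.isChar hν).mul_conj_of_apply_one h1 hz, one_mul]

end Cfsg.Lib.Rel
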