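import Cfsg.Agent.Lib.PF.Sec1Brauer
import Cfsg.Agent.Lib.CharDeg.CosetSum
import Cfsg.Agent.Lib.Clifford.Degree

/-!
# Ambient characters: pull-back along homomorphisms, Gallagher's theorem, characters over `θ`
-/

set_option autoImplicit false
set_option linter.unusedSectionVars false

namespace Cfsg.Lib.Rel

open Cfsg.Lib.PF Subgroup
open scoped ComplexConjugate

variable {X Y : Type*} [Group X] [Group Y] [Finite X] [Finite Y]

section Pull

variable (f : Y →* X) {U : Subgroup X} {V : Subgroup Y} {φ ψ : X → ℂ}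

theorem cfdot_pull_map (V : Subgroup Y) (φ ψ : X → ℂ) :
    cfdot V (φ ∘ f) (ψ ∘ f) = cfdot (V.map f) φ ψ := by
  have := Fintype.ofFinite V
  have := Fintype.ofFinite (V.map f)
  rw [cfdot_eq_classInner, cfdot_eq_classInner]
  exact Char.classInner_comp_surjective (f.subgroupMap V) (f.subgroupMap_surjective V)
    (fun h => φ h) (fun h => ψ h)

theorem cfdot_pull (h : U ≤ f.range) (φ ψ : X → ℂ) :
    cfdot (U.comap f) (φ ∘ f) (ψ ∘ f) = cfdot U φ ψ := by
  rw [cfdot_pull_map, map_comap_eq_self h]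

theorem isChar_pull (h : IsChar U φ) : IsChar (U.comap f) (φ ∘ f) :=
  ⟨fun _ hx => h.1 _ hx, Char.Cfsg.IsCharacter.comp h.2 (f.subgroupComap U)⟩

theorem pull_mem_Irr (hU : U ≤ f.range) (h : φ ∈ Irr U) : φ ∘ f ∈ Irr (U.comap f) :=
  (isChar_pull f (Irr.isChar h)).mem_Irr_of_cfdot (by rw [cfdot_pull f hU, Irr.cfdot_self h])

theorem res_pull_mem_Irr (h : φ ∈ Irr (V.map f)) : res V (φ ∘ f) ∈ Irr V :=
  ((isChar_pull f (Irr.isChar h)).res (le_comap_map f V)).mem_Irr_of_cfdot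
    (by rw [cfdot_res_left, cfdot_res_right, cfdot_pull_map, Irr.cfdot_self h])

theorem ker_le_cfker_pull (φ : X → ℂ) : f.ker ≤ cfker (φ ∘ f) := fun g hg y => by
  simp [(MonoidHom.mem_ker).1 hg]

theorem exists_pull_of_isChar {β : Y → ℂ} (hβ : IsChar V β) (hV : f.ker ≤ V)
    (hk : f.ker ≤ cfker β) : ∃ φ, IsChar (V.map f) φ ∧ φ ∘ f = β := by
  obtain ⟨χ, h1, h2⟩ := Char.Cfsg.IsCharacter.exists_eq_comp_of_surjective hβ.2 (f.subgroupMap V)
    (f.subgroupMap_surjective V) fun x hx => cfker_apply (hk (congrArg Subtype.val hx))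
  refine ⟨extendByZero _ χ, isChar_extendByZero.2 h1, funext fun y => ?_⟩
  by_cases hy : y ∈ V
  · exact (Induce.extendByZero_of_mem _ _ (mem_map_of_mem f hy)).trans (h2 ⟨y, hy⟩)
  · rw [hβ.1 y hy]
    refine Induce.extendByZero_of_not_mem _ _ fun h => hy ?_
    rwa [← mem_comap, comap_map_eq_self hV] at h

theorem exists_pull {β : Y → ℂ} (hβ : β ∈ Irr V) (hk : f.ker ≤ cfker β) :
    ∃ φ ∈ Irr (V.map f), φ ∘ f = β := by
  obtain ⟨φ, h1, rfl⟩ := exists_pull_of_isChar f (Irr.isChar hβ) (hk.trans (Irr.cfker_le hβ)) hk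
  exact ⟨φ, h1.mem_Irr_of_cfdot (by rw [← cfdot_pull_map, Irr.cfdot_self hβ]), rfl⟩

theorem eq_of_pull_eq (h1 : ∀ x, x ∉ f.range → φ x = 0) (h2 : ∀ x, x ∉ f.range → ψ x = 0)
    (h : φ ∘ f = ψ ∘ f) : φ = ψ := funext fun x => by
  by_cases hx : x ∈ f.range
  · obtain ⟨y, rfl⟩ := hx
    exact congrFun h y
  · rw [h1 x hx, h2 x hx]

theorem cfConj_pull (y : Y) (φ : X → ℂ) : cfConj y (φ ∘ f) = cfConj (f y) φ ∘ f := by
  funext x; simp

theorem res_pull (U : Subgroup X) (φ : X → ℂ) : res (U.comap f) (φ ∘ f) = res U φ ∘ f := by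
  funext x
  by_cases hx : f x ∈ U
  · rw [res_of_mem _ (show x ∈ U.comap f from hx), Function.comp, Function.comp, res_of_mem _ hx]
  · rw [res_of_not_mem _ (show x ∉ U.comap f from hx), Function.comp, res_of_not_mem _ hx]

end Pull

section Over

variable {U N T H K : Subgroup X} {θ χ ψ φ η β γ : X → ℂ}

open Classical in
/-- The irreducible characters of `U` lying over `θ` on `N`. -/
noncomputable def IrrO (U N : Subgroup X) (θ : X → ℂ) : Finset (X → ℂ) :=
  (Irr U).filter (fun χ => cfdot N χ θ ≠ 0)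

theorem mem_IrrO : χ ∈ IrrO U N θ ↔ χ ∈ Irr U ∧ cfdot N χ θ ≠ 0 := by
  classical exact Finset.mem_filter

theorem cfConj_mem_IrrO {g : X} (hU : g ∈ normalizer (U : Set X)) (hN : g ∈ normalizer (N : Set X))
    (h : χ ∈ IrrO U N θ) : cfConj g χ ∈ IrrO U N (cfConj g θ) :=
  mem_IrrO.2 ⟨Irr.cfConj_mem hU (mem_IrrO.1 h).1, by rw [cfdot_cfConj hN]; exact (mem_IrrO.1 h).2⟩

theorem normal_subgroupOf (hNU : N ≤ U) (hn : U ≤ normalizer (N : Set X)) :
    (N.subgroupOf U).Normal := (normal_subgroupOf_iff_le_normalizer hNU).2 hn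

theorem isIrr_subgroupOf (hNU : N ≤ U) (h : res N η ∈ Irr N) :
    IsIrrCharacter (N.subgroupOf U) (fun n => η ((n : U) : X)) := by
  have := Irr.isIrrCharacter_subgroupOf hNU h
  rwa [show (fun n : N.subgroupOf U => res N η ((n : U) : X)) =
    fun n : N.subgroupOf U => η ((n : U) : X) from funext fun n => res_of_mem _ (mem_subgroupOf.1 n.2)] at this

theorem cfdot_subgroupOf (hNU : N ≤ U) [Fintype (N.subgroupOf U)] (φ ψ : X → ℂ) :
    classInner (fun n : N.subgroupOf U => φ ((n : U) : X)) (fun n => ψ ((n : U) : X)) =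
      cfdot N φ ψ := by
  have := Fintype.ofFinite N
  rw [cfdot_eq_classInner]
  exact Char.classInner_comp_equiv (subgroupOfEquivOfLe hNU) (fun n => φ n) (fun n => ψ n)

theorem sum_coset_norm (hNU : N ≤ U) (hn : U ≤ normalizer (N : Set X)) (hη : IsChar U η)
    (h : res N η ∈ Irr N) {x : X} (hx : x ∈ U) :
    ∑ n ∈ fs (N : Set X), η (n * x) * conj (η (n * x)) = Nat.card N := by
  have := normal_subgroupOf hNU hn
  have := Fintype.ofFinite (N.subgroupOf U)
  have := Fintype.ofFinite N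
  have h1 := CharDeg.sum_coset_mul_conj_self (N.subgroupOf U) hη.2 (isIrr_subgroupOf hNU h) ⟨x, hx⟩
  rw [Nat.card_congr (subgroupOfEquivOfLe hNU).toEquiv] at h1
  rw [← h1, sum_fs_subgroup]
  exact ((subgroupOfEquivOfLe hNU).toEquiv.sum_comp
    (fun n : N => η (n * x) * conj (η (n * x)))).symm

/-- Multiplication by an extension is an isometry on the functions constant on `N`-cosets. -/
theorem cfdot_mul_ext (hNU : N ≤ U) (hUT : U ≤ T) (hn : U ≤ normalizer (N : Set X))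
    (hη : IsChar T η) (h : res N η ∈ Irr N) (hβ : N ≤ cfker β) (hγ : N ≤ cfker γ) :
    cfdot U (β * η) (γ * η) = cfdot U β γ := by
  have h' : res N (res U η) ∈ Irr N := by rwa [res_res hNU]
  rw [cfdot_def, cfdot_def]
  congr 1
  apply mul_left_cancel₀ (card_ne_zero N)
  have e : ∀ F : X → ℂ, (Nat.card N : ℂ) * ∑ x ∈ fs (U : Set X), F x =
      ∑ x ∈ fs (U : Set X), ∑ n ∈ fs (N : Set X), F (n * x) := fun F => by
    rw [Finset.sum_comm, sum_fs_congr (g := fun _ => ∑ x ∈ fs (U : Set X), F x)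
      fun n hn => sum_fs_mul_left (hNU hn) F, Finset.sum_const, card_fs_subgroup, nsmul_eq_mul]
  rw [e, Finset.mul_sum]
  refine sum_fs_congr fun x hx => ?_
  rw [← sum_coset_norm hNU hn (hη.res hUT) h' hx, Finset.sum_mul]
  refine sum_fs_congr fun n hn' => ?_
  rw [res_of_mem _ (U.mul_mem (hNU hn') hx), Pi.mul_apply, Pi.mul_apply, cfker_mul_left (hβ hn'),
    cfker_mul_left (hγ hn'), map_mul]
  ring

theorem mul_res_eq (hβ : β ∈ CF U) (η : X → ℂ) : β * res U η = β * η := funext fun x => by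
  by_cases hx : x ∈ U
  · simp [res_of_mem _ hx]
  · simp [CF.zero_off hβ hx]

theorem isChar_mul_ext (hUT : U ≤ T) (hη : IsChar T η) (hβ : IsChar U β) : IsChar U (β * η) :=
  mul_res_eq hβ.mem_CF η ▸ hβ.mul (hη.res hUT)

theorem mul_ext_mem_Irr (hNU : N ≤ U) (hUT : U ≤ T) (hn : U ≤ normalizer (N : Set X))
    (hη : IsChar T η) (h : res N η ∈ Irr N) (hβ : β ∈ Irr U) (hk : N ≤ cfker β) :
    β * η ∈ Irr U :=
  (isChar_mul_ext hUT hη (Irr.isChar hβ)).mem_Irr_of_cfdot
    (by rw [cfdot_mul_ext hNU hUT hn hη h hk hk, Irr.cfdot_self hβ])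

theorem cfdot_mul_ext_self (h : res N η ∈ Irr N) (hk : N ≤ cfker β) :
    cfdot N (β * η) η = β 1 := by
  have h1 := Irr.cfdot_self h
  rw [cfdot_res_left, cfdot_res_right] at h1
  rw [cfdot_congr (φ' := β 1 • η) (ψ' := η) (fun x hx => by simp [cfker_apply (hk hx)])
    (fun _ _ => rfl), cfdot_smul_left, h1, mul_one]

/-- Gallagher's theorem. -/
theorem exists_mul_ext (hNU : N ≤ U) (hUT : U ≤ T) (hn : U ≤ normalizer (N : Set X))
    (hη : IsChar T η) (h : res N η ∈ Irr N) (hψ : ψ ∈ Irr U) (hne : cfdot N ψ η ≠ 0) :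
    ∃ β ∈ Irr U, N ≤ cfker β ∧ ψ = β * η := by
  have := normal_subgroupOf hNU hn
  have := Fintype.ofFinite (N.subgroupOf U)
  have hη' : IsCharacter U (fun u : U => η u) := by simpa using (hη.res hUT).2
  obtain ⟨β, h1, h2, h3⟩ := Clifford.exists_mul_eq_of_over (N.subgroupOf U) hη'
    (isIrr_subgroupOf hNU h) (mem_Irr.1 hψ).2 (by rwa [cfdot_subgroupOf hNU])
  have h4 := extendByZero_mem_Irr.2 h1
  refine ⟨extendByZero U β, h4, fun n hn' => (Irr.mem_cfker_iff h4).2 ?_,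
    eq_of_coe_eq (mem_Irr.1 hψ).1 (isChar_mul_ext hUT hη (Irr.isChar h4)).1 ?_⟩
  · rw [Induce.extendByZero_of_mem _ _ (hNU hn'), Induce.extendByZero_of_mem _ _ U.one_mem]
    exact h2 ⟨n, hNU hn'⟩ hn'
  · rw [h3]
    funext u
    simp [Induce.extendByZero_coe]

/-- A character over a linear character of a central subgroup. -/
theorem apply_mul_of_central (hNU : N ≤ U) (hc : ∀ z ∈ N, ∀ u ∈ U, u * z = z * u)
    (hθ : θ ∈ Irr N) (h : χ ∈ IrrO U N θ) {z : X} (hz : z ∈ N) (x : X) :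
    χ (z * x) = θ z * χ x := by
  obtain ⟨hχ, hne⟩ := mem_IrrO.1 h
  have hn : U ≤ normalizer (N : Set X) := fun u hu => mem_normalizer_fintype fun n hn => by
    rw [hc n hn u hu, mul_inv_cancel_right]; exact hn
  have h1 : θ 1 = 1 := Irr.apply_one_of_comm hθ fun a ha b hb => hc b hb a (hNU ha)
  have h2 := Irr.res_eq_smul_of_le_inertia hNU hn hχ hθ hne fun u hu =>
    mem_inertia_of (Irr.mem_CF hθ) (hn hu) fun n hn => by rw [hc n hn u hu, mul_inv_cancel_right]
  have h3 := congrFun h2 1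
  have h4 := congrFun h2 z
  rw [res_of_mem _ hz] at h4
  rw [res_one_apply] at h3
  simp only [Pi.smul_apply, smul_eq_mul, h1, mul_one] at h3 h4
  have h5 := Irr.apply_mul_of_central hχ (hNU hz) (fun c hc' => by
    rw [hc z hz c hc']; simp) x
  apply mul_right_cancel₀ (Irr.apply_one_ne_zero hχ)
  rw [h5, h4, ← h3]; ring

end Over

end Cfsg.Lib.Rel
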