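import Cfsg.Agent.Lib.Rel.Pull

/-!
# Character triples: reduction to a central subgroup

`Triple W G N θ π q μ Φ`: the group `Γ` maps onto `W ≤ X` by `π` and onto `Y` by `q`; the
subgroups `N ≤ U ≤ W` correspond to the subgroups `up π q U` of `Y` containing the central subgroup
`up π q N`, and `Φ` maps the characters of `up π q U` over the linear character `μ` onto the
characters of `U` over `θ`, for `N ≤ U ≤ G`.
-/

set_option autoImplicit false
set_option linter.unusedSectionVars false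

namespace Cfsg.Lib.Rel

open Cfsg.Lib.PF Subgroup
open scoped ComplexConjugate

universe u

variable {X Y Γ : Type*} [Group X] [Group Y] [Group Γ] [Finite X] [Finite Y] [Finite Γ]

/-- The subgroup of `Y` corresponding to `U`. -/
def up (π : Γ →* X) (q : Γ →* Y) (U : Subgroup X) : Subgroup Y := (U.comap π).map q

theorem up_mono (π : Γ →* X) (q : Γ →* Y) {U V : Subgroup X} (h : U ≤ V) : up π q U ≤ up π q V :=
  map_mono (comap_mono h)

/-- `β` transforms by `μ` under `Z`. -/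
def Eqv (Z : Subgroup Y) (μ β : Y → ℂ) : Prop := ∀ z ∈ Z, ∀ y, β (z * y) = μ z * β y

structure Triple (W G N : Subgroup X) (θ : X → ℂ) (π : Γ →* X) (q : Γ →* Y) (μ : Y → ℂ)
    (Φ : (Y → ℂ) → X → ℂ) : Prop where
  le : N ≤ G
  le' : G ≤ W
  range : π.range = W
  surj : Function.Surjective q
  ker : q.ker ≤ N.comap π
  cent : up π q N ≤ center Y
  irr : μ ∈ Irr (up π q N)
  bij : ∀ U, N ≤ U → U ≤ G → Set.BijOn Φ (IrrO (up π q U) (up π q N) μ) (IrrO U N θ)
  dot : ∀ U, N ≤ U → U ≤ G → ∀ β γ, Eqv (up π q N) μ β → Eqv (up π q N) μ γ →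
    cfdot U (Φ β) (Φ γ) = cfdot (up π q U) β γ
  cnj : ∀ g β, Eqv (up π q N) μ β → Φ (cfConj (q g) β) = cfConj (π g) (Φ β)
  deg_one : ∀ β, Eqv (up π q N) μ β → Φ β 1 = θ 1 * β 1

structure TripleData (W G N : Subgroup X) (θ : X → ℂ) (π : Γ →* X) (q : Γ →* Y) (η : Γ → ℂ) :
    Prop where
  le : N ≤ G
  le' : G ≤ W
  irr : θ ∈ Irr N
  nml : W ≤ normalizer (N : Set X)
  range : π.range = W
  surj : Function.Surjective q
  map_ker : q.ker.map π = N
  cent : π.ker ≤ center Γ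
  char : IsChar (G.comap π) η
  inv : ∀ g x, η (g * x * g⁻¹) = η x
  ext : ∀ n ∈ q.ker, η n = θ (π n)

namespace TripleData

variable {W G N U : Subgroup X} {θ φ ψ : X → ℂ} {π : Γ →* X} {q : Γ →* Y} {η : Γ → ℂ}
  {β γ μ : Y → ℂ}

theorem ker_le (h : TripleData W G N θ π q η) : q.ker ≤ N.comap π :=
  map_le_iff_le_comap.1 h.map_ker.le

theorem comap_up (h : TripleData W G N θ π q η) (hU : N ≤ U) :
    (up π q U).comap q = U.comap π := comap_map_eq_self (h.ker_le.trans (comap_mono hU))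

theorem res_irr (h : TripleData W G N θ π q η) : res q.ker η ∈ Irr q.ker := by
  rw [res_congr (ψ := θ ∘ π) h.ext]
  exact res_pull_mem_Irr π (h.map_ker ▸ h.irr)

theorem dot (h : TripleData W G N θ π q η) (hU : N ≤ U) (hG : U ≤ G)
    (h1 : ∀ g, φ (π g) = β (q g) * η g) (h2 : ∀ g, ψ (π g) = γ (q g) * η g) :
    cfdot U φ ψ = cfdot (up π q U) β γ := by
  rw [← cfdot_pull π (hG.trans (h.le'.trans h.range.ge)), show φ ∘ π = (β ∘ q) * η from funext h1,
    show ψ ∘ π = (γ ∘ q) * η from funext h2, cfdot_mul_ext (h.ker_le.trans (comap_mono hU))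
      (comap_mono hG) le_normalizer_of_normal h.char h.res_irr (ker_le_cfker_pull q β)
      (ker_le_cfker_pull q γ), cfdot_pull_map, up]

theorem exists_up (h : TripleData W G N θ π q η) (hU : N ≤ U) (hG : U ≤ G) (hφ : φ ∈ IrrO U N θ) :
    ∃ β ∈ Irr (up π q U), ∀ g, φ (π g) = β (q g) * η g := by
  obtain ⟨h1, h2⟩ := mem_IrrO.1 hφ
  obtain ⟨b, hb, hk, e⟩ := exists_mul_ext (h.ker_le.trans (comap_mono hU)) (comap_mono hG)
    le_normalizer_of_normal h.char h.res_irr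
    (pull_mem_Irr π (hG.trans (h.le'.trans h.range.ge)) h1)
    (by rwa [cfdot_congr (fun _ _ => rfl) h.ext, ← Function.comp_def θ π, cfdot_pull_map, h.map_ker])
  obtain ⟨β, hβ, rfl⟩ := exists_pull q hb hk
  exact ⟨β, hβ, congrFun e⟩

theorem cent_up (h : TripleData W G N θ π q η) : up π q N ≤ center Y := by
  rintro _ ⟨x, hx, rfl⟩
  obtain ⟨n, hn, e⟩ := h.map_ker.ge hx
  have hz : n⁻¹ * x ∈ π.ker := by rw [MonoidHom.mem_ker, map_mul, map_inv, e, inv_mul_cancel]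
  have : q x = q (n⁻¹ * x) := by rw [map_mul, map_inv, (MonoidHom.mem_ker).1 hn]; simp
  rw [this, mem_center_iff]
  intro y
  obtain ⟨g, rfl⟩ := h.surj y
  rw [← map_mul, ← map_mul, mem_center_iff.1 (h.cent hz)]

theorem one_ne (h : TripleData W G N θ π q η) : η 1 ≠ 0 := by
  rw [h.ext 1 q.ker.one_mem, map_one]; exact Irr.apply_one_ne_zero h.irr

theorem well (h : TripleData W G N θ π q η) (hμ : ∀ g, θ (π g) = μ (q g) * η g)
    (hβ : Eqv (up π q N) μ β) {g g' : Γ} (e : π g = π g') :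
    β (q g) * η g = β (q g') * η g' := by
  have hz : g * g'⁻¹ ∈ π.ker := by rw [MonoidHom.mem_ker, map_mul, map_inv, e, mul_inv_cancel]
  have hη : η ∈ Irr (G.comap π) :=
    h.char.mem_Irr_of_cfdot (by
      have h1 := mul_ext_mem_Irr (h.ker_le.trans (comap_mono h.le)) le_rfl le_normalizer_of_normal
        h.char h.res_irr (cf1_mem_Irr _) (by rw [cfker_cf1]; exact h.ker_le.trans (comap_mono h.le))
      rw [mul_comm, CF.mul_cf1 h.char.mem_CF] at h1
      exact Irr.cfdot_self h1)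
  have h1 := Irr.apply_mul_of_central hη (ker_le_comap π G hz) (fun c _ => by
    rw [mem_center_iff.1 (h.cent hz) c]; simp) g'
  have h2 := hμ (g * g'⁻¹)
  rw [(MonoidHom.mem_ker).1 hz, ← map_one π, ← h.ext 1 q.ker.one_mem] at h2
  have h3 := hβ _ (mem_map_of_mem q (ker_le_comap π N hz)) (q g')
  rw [← map_mul] at h3
  rw [inv_mul_cancel_right] at h1 h3
  apply mul_right_cancel₀ h.one_ne
  rw [h3, mul_assoc, h1]
  linear_combination (-β (q g') * η g') * h2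

theorem exists_triple (h : TripleData W G N θ π q η) :
    ∃ μ Φ, Triple W G N θ π q μ Φ ∧ ∀ g, θ (π g) = μ (q g) * η g := by
  classical
  obtain ⟨μ, hμ, hμ'⟩ := h.exists_up le_rfl h.le
    (mem_IrrO.2 ⟨h.irr, by rw [Irr.cfdot_self h.irr]; exact one_ne_zero⟩)
  let Φ : (Y → ℂ) → X → ℂ := fun β x =>
    if hx : ∃ g, π g = x then β (q hx.choose) * η hx.choose else 0
  have hΦ : ∀ β, Eqv (up π q N) μ β → ∀ g, Φ β (π g) = β (q g) * η g := fun β hβ g => by
    have hx : ∃ g', π g' = π g := ⟨g, rfl⟩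
    exact (dif_pos hx).trans (h.well hμ' hβ hx.choose_spec)
  have h0 : ∀ β x, x ∉ π.range → Φ β x = 0 := fun β x hx => dif_neg hx
  have hE : ∀ U β, N ≤ U → β ∈ IrrO (up π q U) (up π q N) μ → Eqv (up π q N) μ β :=
    fun U β hU hβ z hz y => apply_mul_of_central (up_mono π q hU)
      (fun z hz u _ => mem_center_iff.1 (h.cent_up hz) u) hμ hβ hz y
  refine ⟨μ, Φ, ⟨h.le, h.le', h.range, h.surj, h.ker_le, h.cent_up, hμ, fun U hU hG => ⟨?_, ?_, ?_⟩,
    fun U hU hG β γ hβ hγ => h.dot hU hG (hΦ β hβ) (hΦ γ hγ), fun g β hβ => ?_,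
    fun β hβ => ?_⟩, hμ'⟩
  · intro β hβ
    have h1 := hΦ β (hE U β hU hβ)
    obtain ⟨h2, h3⟩ := mem_IrrO.1 hβ
    have hr : U ≤ π.range := hG.trans (h.le'.trans h.range.ge)
    have h4 : β ∘ q ∈ Irr (U.comap π) := h.comap_up hU ▸ pull_mem_Irr q (by
      rw [MonoidHom.range_eq_top.2 h.surj]; exact le_top) h2
    have h5 := mul_ext_mem_Irr (h.ker_le.trans (comap_mono hU)) (comap_mono hG)
      le_normalizer_of_normal h.char h.res_irr h4 (ker_le_cfker_pull q β)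
    have h6 : Φ β ∘ π = (β ∘ q) * η := funext h1
    obtain ⟨φ, hφ, e⟩ := exists_pull π h5 (h6 ▸ ker_le_cfker_pull π _)
    rw [map_comap_eq_self hr] at hφ
    have h7 : φ = Φ β := eq_of_pull_eq π (fun x hx => (mem_Irr.1 hφ).1 x fun h => hx (hr h))
      (h0 β) (e.trans h6.symm)
    exact mem_IrrO.2 ⟨h7 ▸ hφ, by rwa [h.dot le_rfl h.le h1 hμ']⟩
  · intro β hβ γ hγ e
    refine Irr.eq_of_cfdot_ne_zero (mem_IrrO.1 hβ).1 (mem_IrrO.1 hγ).1 ?_
    rw [← h.dot hU hG (hΦ β (hE U β hU hβ)) (hΦ γ (hE U γ hU hγ)), ← e,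
      h.dot hU hG (hΦ β (hE U β hU hβ)) (hΦ β (hE U β hU hβ)), Irr.cfdot_self (mem_IrrO.1 hβ).1]
    exact one_ne_zero
  · intro φ hφ
    obtain ⟨β, h1, h2⟩ := h.exists_up hU hG hφ
    have h3 : β ∈ IrrO (up π q U) (up π q N) μ :=
      mem_IrrO.2 ⟨h1, by rw [← h.dot le_rfl h.le h2 hμ']; exact (mem_IrrO.1 hφ).2⟩
    refine ⟨β, h3, eq_of_pull_eq π (h0 β) (fun x hx => (mem_Irr.1 (mem_IrrO.1 hφ).1).1 x
      fun h' => hx (h.range.ge (h.le' (hG h')))) (funext fun g => ?_)⟩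
    exact (hΦ β (hE U β hU h3) g).trans (h2 g).symm
  · have h1 : Eqv (up π q N) μ (cfConj (q g) β) := fun z hz y => by
      rw [cfConj_apply, cfConj_apply, ← hβ z hz, ← mul_assoc, mem_center_iff.1 (h.cent_up hz),
        mul_assoc z, mul_assoc z]
    refine eq_of_pull_eq π (h0 _) (fun x hx => h0 _ _ fun h' => hx ?_) (funext fun x => ?_)
    · rwa [π.range.mul_mem_cancel_right (π.range.inv_mem ⟨g, rfl⟩),
        π.range.mul_mem_cancel_left ⟨g, rfl⟩] at h'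
    · rw [Function.comp, hΦ _ h1, Function.comp, cfConj_apply, cfConj_apply, ← map_inv π,
        ← map_mul π, ← map_mul π, hΦ _ hβ, h.inv, map_mul, map_mul, map_inv]
  · rw [← map_one π, hΦ β hβ, h.ext 1 q.ker.one_mem, map_one, map_one, mul_comm]

end TripleData

theorem exists_mul_dvd_pow_coprime (k : ℕ) {m : ℕ} (hm : m ≠ 0) :
    ∃ a b j, m = a * b ∧ a ∣ k ^ j ∧ b.Coprime k := by
  induction m using Nat.strong_induction_on with
  | _ m ih =>
    by_cases h : m.Coprime k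
    · exact ⟨1, m, 0, (one_mul m).symm, one_dvd _, h⟩
    · obtain ⟨c, hc⟩ := Nat.gcd_dvd_left m k
      have h1 : 1 < m.gcd k := lt_of_le_of_ne (Nat.gcd_pos_of_pos_left k (Nat.pos_of_ne_zero hm))
        (Ne.symm h)
      have hc0 : c ≠ 0 := by rintro rfl; exact hm (by simpa using hc)
      obtain ⟨a, b, j, e, h2, h3⟩ := ih c (by
        rw [hc]; exact lt_mul_of_one_lt_left (Nat.pos_of_ne_zero hc0) h1) hc0
      exact ⟨m.gcd k * a, b, j + 1, by rw [mul_assoc, ← e, ← hc],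
        by rw [pow_succ']; exact mul_dvd_mul (Nat.gcd_dvd_right m k) h2, h3⟩

theorem exists_part {A : Type*} [CommGroup A] (k : ℕ) {f : A} (hf : IsOfFinOrder f) :
    ∃ (f₁ f₂ : A) (c₁ c₂ : ℤ) (j : ℕ), f₁ = f ^ c₁ ∧ f₂ = f ^ c₂ ∧ f = f₁ * f₂ ∧
      orderOf f₁ ∣ k ^ j ∧ (orderOf f₂).Coprime k := by
  obtain ⟨a, b, j, e, h1, h2⟩ := exists_mul_dvd_pow_coprime k hf.orderOf_pos.ne'
  have hab : a.Coprime b := ((h2.pow_right j).coprime_dvd_right h1).symm
  have h3 := Nat.gcd_eq_gcd_ab a b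
  rw [hab.gcd_eq_one] at h3
  have h4 : ∀ c : ℤ, f ^ (((a * b : ℕ) : ℤ) * c) = 1 := fun c => by
    rw [zpow_mul, zpow_natCast, ← e, pow_orderOf_eq_one, one_zpow]
  refine ⟨_, _, b * a.gcdB b, a * a.gcdA b, j, rfl, rfl, ?_, (orderOf_dvd_of_pow_eq_one ?_).trans h1,
    h2.coprime_dvd_left (orderOf_dvd_of_pow_eq_one ?_)⟩
  · rw [← zpow_add, add_comm, ← h3]; simp
  · rw [← zpow_natCast, ← zpow_mul, ← h4 (a.gcdB b)]; congr 1; push_cast; ring
  · rw [← zpow_natCast, ← zpow_mul, ← h4 (a.gcdA b)]; congr 1; push_cast; ring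

theorem exists_cover {X : Type u} [Group X] [Finite X] {W N : Subgroup X} {θ : X → ℂ}
    (hNW : N ≤ W) (hN : W ≤ normalizer (N : Set X)) (hθ : θ ∈ Irr N) (hI : W ≤ inertia θ) :
    ∃ (Γ : Type u) (_ : Group Γ) (_ : Finite Γ) (π : Γ →* X) (M : Subgroup Γ) (χ : Γ → ℂ),
      π.range = W ∧ π.ker ≤ center Γ ∧ M.Normal ∧ M.map π = N ∧ IsChar ⊤ χ ∧
        ∀ n ∈ M, χ n = θ (π n) := by
  have := normal_subgroupOf hNW hN
  obtain ⟨Γ, _, _, π, ι, χ, h1, h2, h3, h4, h5, h6, -⟩ := Clifford.exists_finite_cover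
    (N.subgroupOf W) (Irr.isIrrCharacter_subgroupOf hNW hθ) (fun g n => mem_inertia_iff.1 (hI g.2) _)
  refine ⟨Γ, inferInstance, inferInstance, W.subtype.comp π, ι.range, χ, ?_, fun z hz => h2 ?_,
    ⟨?_⟩, ?_, isChar_top.2 (Char.Cfsg.IsIrrCharacter.isCharacter h5), ?_⟩
  · rw [MonoidHom.range_comp, MonoidHom.range_eq_top.2 h1, ← MonoidHom.range_eq_map, range_subtype]
  · exact Subtype.ext hz
  · rintro _ ⟨n, rfl⟩ g
    exact ⟨_, (h4 g n).symm⟩
  · refine le_antisymm ?_ fun n hn => ⟨ι ⟨⟨n, hNW hn⟩, hn⟩, ⟨_, rfl⟩, congrArg Subtype.val (h3 _)⟩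
    rintro _ ⟨_, ⟨n, rfl⟩, rfl⟩
    change ((π (ι n) : W) : X) ∈ N
    rw [h3]; exact n.2
  · rintro _ ⟨n, rfl⟩
    exact (h6 n).trans (congrArg θ (congrArg Subtype.val (h3 n)).symm)

theorem exists_tripleData {X : Type u} [Group X] [Finite X] {W G N : Subgroup X} {θ : X → ℂ}
    (hNG : N ≤ G) (hGW : G ≤ W) (hG : W ≤ normalizer (G : Set X))
    (hN : W ≤ normalizer (N : Set X)) (hθ : θ ∈ Irr N) (hI : W ≤ inertia θ) :
    ∃ (Γ Y : Type u) (_ : Group Γ) (_ : Finite Γ) (_ : Group Y) (_ : Finite Y) (π : Γ →* X)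
      (q : Γ →* Y) (η : Γ → ℂ), TripleData W G N θ π q η ∧
        ∃ j, ∀ z ∈ up π q N, z ^ (N.relIndex G) ^ j = 1 := by
  obtain ⟨Γ, _, _, π, M, χ, h1, h2, h3, h4, h5, h6⟩ := exists_cover (hNG.trans hGW) hN hθ hI
  have hr : ∀ g, π g ∈ W := fun g => h1.le ⟨g, rfl⟩
  have hn : ∀ U : Subgroup X, W ≤ normalizer (U : Set X) → (U.comap π).Normal := fun U hU =>
    ⟨fun x hx g => by simpa using (hU (hr g) _).1 hx⟩
  have hnN := hn N hN
  have hnG := hn G hG
  have hM : M ≤ N.comap π := map_le_iff_le_comap.1 h4.le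
  have hMi : res M (θ ∘ π) ∈ Irr M := res_pull_mem_Irr π (h4 ▸ hθ)
  have hMi' : res M χ ∈ Irr M := by rwa [res_congr (ψ := θ ∘ π) h6]
  have hχ := mul_ext_mem_Irr hM le_top le_normalizer_of_normal h5 hMi' (cf1_mem_Irr _)
    (by rwa [cfker_cf1])
  have hθ1 := Irr.apply_one_ne_zero hθ
  obtain ⟨b, hb, hk, e⟩ := exists_mul_ext hM le_rfl le_normalizer_of_normal
    (isChar_pull π (Irr.isChar hθ)) hMi hχ (by
      rw [cfdot_congr (φ' := res M (θ ∘ π)) (ψ' := res M (θ ∘ π)) (fun x hx => by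
        simp [cf1_of_mem (hM hx), h6 x hx, res_of_mem _ hx]) (fun x hx => (res_of_mem _ hx).symm),
        Irr.cfdot_self hMi]
      exact one_ne_zero)
  have hb1 : b 1 = 1 := by
    have := congrFun e 1
    simp only [Pi.mul_apply, cf1_one, h6 1 M.one_mem, Function.comp, map_one] at this
    exact (mul_right_cancel₀ hθ1 this).symm
  obtain ⟨f, rfl⟩ := (Irr.isChar hb).exists_linChar hb1
  have hf : ∀ x (hx : x ∈ N.comap π), χ x = f ⟨x, hx⟩ * θ (π x) := fun x hx => by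
    simpa [cf1_of_mem hx, linChar_of_mem f hx] using congrFun e x
  have hfM : ∀ x (hx : x ∈ M), f ⟨x, hM hx⟩ = 1 := fun x hx => Units.ext (by
    have := cfker_apply (hk hx)
    rwa [linChar_of_mem f (hM hx), linChar_apply_one] at this)
  have hfi : ∀ g x (hx : x ∈ N.comap π), f ⟨g * x * g⁻¹, hnN.conj_mem x hx g⟩ = f ⟨x, hx⟩ := by
    intro g x hx
    obtain ⟨n, hn, e⟩ := h4.ge hx
    have hz : n⁻¹ * x ∈ π.ker := by rw [MonoidHom.mem_ker, map_mul, map_inv, e, inv_mul_cancel]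
    have h7 : g * x * g⁻¹ * x⁻¹ ∈ M := by
      have h8 : g * x * g⁻¹ * x⁻¹ = g * n * g⁻¹ * n⁻¹ := by
        have := mem_center_iff.1 (h2 hz) g⁻¹
        calc _ = g * n * ((n⁻¹ * x) * g⁻¹) * x⁻¹ := by group
          _ = _ := by rw [← this]; group
      rw [h8]
      exact M.mul_mem (h3.conj_mem n hn g) (M.inv_mem hn)
    rw [← one_mul (f ⟨x, hx⟩), ← hfM _ h7, ← map_mul]
    congr 1
    exact Subtype.ext (by simp)
  have hNG' : N.comap π ≤ G.comap π := comap_mono hNG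
  have hi : ((N.comap π).subgroupOf (G.comap π)).index = N.relIndex G := by
    rw [← relIndex, relIndex_comap, map_comap_eq_self (hGW.trans h1.ge)]
  obtain ⟨f₁, f₂, c₁, c₂, j, e₁, e₂, e₃, o₁, o₂⟩ := exists_part (N.relIndex G) (f := f)
    (isOfFinOrder_iff_pow_eq_one.2 ⟨Nat.card (N.comap π), Nat.card_pos,
      orderOf_dvd_iff_pow_eq_one.1 (Clifford.orderOf_hom_dvd_card f)⟩)
  let lam := f₂.comp (subgroupOfEquivOfLe hNG').toMonoidHom
  have o₃ : ((N.comap π).subgroupOf (G.comap π)).index.Coprime (orderOf lam) := by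
    rw [hi]
    refine (o₂.coprime_dvd_left (orderOf_dvd_of_pow_eq_one (MonoidHom.ext fun x => ?_))).symm
    exact DFunLike.congr_fun (pow_orderOf_eq_one f₂) (subgroupOfEquivOfLe hNG' x)
  have hli : ∀ g x (hx : x ∈ N.comap π), f₂ ⟨g * x * g⁻¹, hnN.conj_mem x hx g⟩ = f₂ ⟨x, hx⟩ :=
    fun g x hx => by rw [e₂, MonoidHom.zpow_apply, MonoidHom.zpow_apply, hfi]
  obtain ⟨ν, hν, o₄⟩ := Clifford.exists_hom_extension_of_coprime
    ((N.comap π).subgroupOf (G.comap π)) lam (fun g n => hli g n n.2) o₃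
  have hνi : ∀ g x (hx : x ∈ G.comap π), ν ⟨g * x * g⁻¹, hnG.conj_mem x hx g⟩ = ν ⟨x, hx⟩ := by
    intro g x hx
    have h7 : ν.comp (MulAut.conjNormal g).toMonoidHom = ν :=
      Clifford.hom_eq_of_res_eq_of_coprime ((N.comap π).subgroupOf (G.comap π)) (fun n =>
        (hν ⟨_, hnN.conj_mem n n.2 g⟩).trans ((hli g n n.2).trans (hν n).symm))
        ((o₄ ▸ o₃).coprime_dvd_right (orderOf_dvd_of_pow_eq_one (MonoidHom.ext fun x =>
          DFunLike.congr_fun (pow_orderOf_eq_one ν) _))) (o₄ ▸ o₃)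
    exact DFunLike.congr_fun h7 ⟨x, hx⟩
  let K : Subgroup Γ := f₁.ker.map (N.comap π).subtype
  have hK : ∀ x (hx : x ∈ N.comap π), x ∈ K ↔ f₁ ⟨x, hx⟩ = 1 := fun x hx =>
    ⟨by rintro ⟨y, hy, rfl⟩; exact hy, fun h => ⟨⟨x, hx⟩, h, rfl⟩⟩
  have hKN : K ≤ N.comap π := map_subtype_le _
  have : K.Normal := ⟨fun x hx g => (hK _ (hnN.conj_mem x (hKN hx) g)).2 (by
    have := (hK x (hKN hx)).1 hx
    rwa [e₁, MonoidHom.zpow_apply, hfi g x (hKN hx), ← MonoidHom.zpow_apply, ← e₁])⟩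
  have hq : (QuotientGroup.mk' K).ker = K := QuotientGroup.ker_mk' K
  refine ⟨Γ, Γ ⧸ K, inferInstance, inferInstance, inferInstance, inferInstance, π,
    QuotientGroup.mk' K, linChar _ ν⁻¹ * χ, ⟨hNG, hGW, hθ, hN, h1, QuotientGroup.mk'_surjective K,
      ?_, h2, isChar_mul_ext le_top h5 (Irr.isChar (linChar_mem_Irr _)), fun g x => ?_,
      fun n hn => ?_⟩, j, ?_⟩
  · rw [hq]
    refine le_antisymm (map_le_iff_le_comap.2 hKN) (h4.ge.trans (map_mono fun x hx => ?_))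
    rw [hK x (hM hx), e₁, MonoidHom.zpow_apply, hfM x hx, one_zpow]
  · rw [Pi.mul_apply, Pi.mul_apply, CF.conj h5.mem_CF (mem_top g)]
    congr 1
    by_cases hx : x ∈ G.comap π
    · rw [linChar_of_mem _ hx, linChar_of_mem _ (hnG.conj_mem x hx g), MonoidHom.inv_apply,
        MonoidHom.inv_apply, hνi]
    · rw [linChar_of_not_mem _ hx, linChar_of_not_mem _ fun h => hx (by
        simpa [mul_assoc] using hnG.conj_mem _ h g⁻¹)]
  · rw [hq] at hn
    have h7 : ν ⟨n, hNG' (hKN hn)⟩ = f₂ ⟨n, hKN hn⟩ := hν ⟨⟨n, hNG' (hKN hn)⟩, hKN hn⟩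
    rw [Pi.mul_apply, linChar_of_mem _ (hNG' (hKN hn)), MonoidHom.inv_apply, h7, hf n (hKN hn),
      e₃, MonoidHom.mul_apply, (hK n (hKN hn)).1 hn]
    simp
  · rintro _ ⟨x, hx, rfl⟩
    rw [← map_pow, ← MonoidHom.mem_ker, hq, hK _ ((N.comap π).pow_mem hx _)]
    change f₁ (⟨x, hx⟩ ^ _) = 1
    rw [map_pow, ← MonoidHom.pow_apply, orderOf_dvd_iff_pow_eq_one.1 o₁, MonoidHom.one_apply]

/-- Reduction of a character triple to a central subgroup whose order involves only the primes of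
`|G : N|`. -/
theorem exists_triple {X : Type u} [Group X] [Finite X] {W G N : Subgroup X} {θ : X → ℂ}
    (hNG : N ≤ G) (hGW : G ≤ W) (hG : W ≤ normalizer (G : Set X))
    (hN : W ≤ normalizer (N : Set X)) (hθ : θ ∈ Irr N) (hI : W ≤ inertia θ) :
    ∃ (Γ Y : Type u) (_ : Group Γ) (_ : Finite Γ) (_ : Group Y) (_ : Finite Y) (π : Γ →* X)
      (q : Γ →* Y) (μ : Y → ℂ) (Φ : (Y → ℂ) → X → ℂ), Triple W G N θ π q μ Φ ∧
        ∀ m : ℕ, m.Coprime (N.relIndex G) → m.Coprime (Nat.card (up π q N)) := by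
  obtain ⟨Γ, Y, _, _, _, _, π, q, η, h, j, hj⟩ := exists_tripleData hNG hGW hG hN hθ hI
  obtain ⟨μ, Φ, h1, -⟩ := h.exists_triple
  refine ⟨Γ, Y, inferInstance, inferInstance, inferInstance, inferInstance, π, q, μ, Φ, h1,
    fun m hm => Nat.coprime_of_dvd fun p hp h2 h3 => ?_⟩
  have := Fact.mk hp
  obtain ⟨z, hz⟩ := exists_prime_orderOf_dvd_card' p h3
  have h4 : orderOf (z : Y) ∣ _ := orderOf_dvd_of_pow_eq_one (hj z z.2)
  rw [orderOf_coe, hz] at h4
  exact hp.one_lt.ne' (Nat.eq_one_of_dvd_coprimes hm h2 (hp.dvd_of_dvd_pow h4))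

namespace Triple

variable {W G N U V : Subgroup X} {θ φ ψ : X → ℂ} {π : Γ →* X} {q : Γ →* Y}
  {β γ μ : Y → ℂ} {Φ : (Y → ℂ) → X → ℂ}

theorem comap_up (h : Triple W G N θ π q μ Φ) (hU : N ≤ U) :
    (up π q U).comap q = U.comap π := comap_map_eq_self (h.ker.trans (comap_mono hU))

theorem mem_up (h : Triple W G N θ π q μ Φ) (hU : N ≤ U) {g : Γ} : q g ∈ up π q U ↔ π g ∈ U := by
  rw [← mem_comap, h.comap_up hU, mem_comap]

theorem mem (h : Triple W G N θ π q μ Φ) (g : Γ) : π g ∈ W := h.range.le ⟨g, rfl⟩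

theorem exists_lift (h : Triple W G N θ π q μ Φ) {x : X} (hx : x ∈ W) : ∃ g, π g = x :=
  h.range.ge hx

theorem up_top (h : Triple W G N θ π q μ Φ) : up π q W = ⊤ := by
  rw [eq_top_iff]
  intro y _
  obtain ⟨g, rfl⟩ := h.surj y
  exact (h.mem_up (h.le.trans h.le')).2 (h.mem g)

theorem relIndex_up (h : Triple W G N θ π q μ Φ) (hU : N ≤ U) (hV : V ≤ W) :
    (up π q U).relIndex (up π q V) = U.relIndex V := by
  rw [show up π q V = (V.comap π).map q from rfl, ← relIndex_comap, h.comap_up hU, relIndex_comap,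
    map_comap_eq_self (hV.trans h.range.ge)]

theorem card_up (h : Triple W G N θ π q μ Φ) (hU : N ≤ U) (hV : U ≤ W) :
    Nat.card (up π q U) = Nat.card (up π q N) * N.relIndex U := by
  rw [← h.relIndex_up le_rfl hV, card_mul_relIndex' (up_mono π q hU)]

theorem mem_normalizer (h : Triple W G N θ π q μ Φ) (hU : N ≤ U) {g : Γ}
    (hg : π g ∈ normalizer (U : Set X)) : q g ∈ normalizer (up π q U : Set Y) := fun y => by
  obtain ⟨x, rfl⟩ := h.surj y
  rw [← map_inv, ← map_mul, ← map_mul, SetLike.mem_coe, SetLike.mem_coe, h.mem_up hU, h.mem_up hU,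
    map_mul, map_mul, map_inv]
  exact hg _

theorem le_normalizer (h : Triple W G N θ π q μ Φ) (hU : N ≤ U)
    (hV : V ≤ normalizer (U : Set X)) : up π q V ≤ normalizer (up π q U : Set Y) := by
  rintro _ ⟨g, hg, rfl⟩
  exact h.mem_normalizer hU (hV hg)

theorem normal_up (h : Triple W G N θ π q μ Φ) (hU : N ≤ U) (hW : W ≤ normalizer (U : Set X)) :
    (up π q U).Normal := by
  rw [← normalizer_eq_top_iff, eq_top_iff, ← h.up_top]; exact h.le_normalizer hU hW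

theorem up_sup (h : Triple W G N θ π q μ Φ) (hU : U ≤ W) (hV : V ≤ W) :
    up π q (U ⊔ V) = up π q U ⊔ up π q V := by
  rw [up, ← comap_sup_eq_of_le_range π (hU.trans h.range.ge) (hV.trans h.range.ge),
    Subgroup.map_sup]
  rfl

theorem up_inf (h : Triple W G N θ π q μ Φ) (hU : N ≤ U) (hV : N ≤ V) :
    up π q (U ⊓ V) = up π q U ⊓ up π q V := by
  ext y
  obtain ⟨g, rfl⟩ := h.surj y
  rw [mem_inf, h.mem_up hU, h.mem_up hV, h.mem_up (le_inf hU hV), mem_inf]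

theorem eqv (h : Triple W G N θ π q μ Φ) {V : Subgroup Y} (hV : up π q N ≤ V)
    (hβ : β ∈ IrrO V (up π q N) μ) : Eqv (up π q N) μ β := fun _ hz y =>
  apply_mul_of_central hV (fun _ hz u _ => mem_center_iff.1 (h.cent hz) u) h.irr hβ hz y

theorem one (h : Triple W G N θ π q μ Φ) : μ 1 = 1 :=
  Irr.apply_one_of_comm h.irr fun a _ _ hb => mem_center_iff.1 (h.cent hb) a

theorem mem_normalizer_bot (h : Triple W G N θ π q μ Φ) (y : Y) :
    y ∈ normalizer (up π q N : Set Y) := mem_normalizer_fintype fun z hz => by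
  rwa [mem_center_iff.1 (h.cent hz), mul_inv_cancel_right]

theorem inertia_eq (h : Triple W G N θ π q μ Φ) (y : Y) : cfConj y μ = μ :=
  mem_inertia_of (Irr.mem_CF h.irr) (h.mem_normalizer_bot y)
    fun z hz => by rw [mem_center_iff.1 (h.cent hz), mul_inv_cancel_right]

theorem mem_inertia_iff (h : Triple W G N θ π q μ Φ) (hU : N ≤ U) (hG : U ≤ G)
    (hβ : β ∈ IrrO (up π q U) (up π q N) μ) {g : Γ} (hg : π g ∈ normalizer (U : Set X)) :
    π g ∈ inertia (Φ β) ↔ q g ∈ inertia β := by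
  have h1 := h.cnj g β (h.eqv (up_mono π q hU) hβ)
  refine ⟨fun e => (h.bij U hU hG).injOn ?_ hβ (h1.trans e), fun e => by
    rw [mem_inertia, ← h1, mem_inertia.1 e]⟩
  have h2 := cfConj_mem_IrrO (h.mem_normalizer hU hg) (h.mem_normalizer_bot (q g)) hβ
  rwa [h.inertia_eq] at h2

theorem deg_eq (h : Triple W G N θ π q μ Φ) (hθ : θ ∈ Irr N) (hU : N ≤ U)
    (hβ : β ∈ IrrO (up π q U) (up π q N) μ) : deg (Φ β) = deg θ * deg β := by
  apply deg_of_eq
  rw [h.deg_one β (h.eqv (up_mono π q hU) hβ), Irr.apply_one hθ, Irr.apply_one (mem_IrrO.1 hβ).1,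
    Nat.cast_mul]

end Triple

end Cfsg.Lib.Rel
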